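import Cfsg.Agent.Lib.Invol.GlaubermanZStar
import Cfsg.Agent.Lib.Invol.Dihedral
import Cfsg.Agent.Lib.Solvable.Core
import Cfsg.Agent.Lib.Solvable.CoprimeAction

/-!
# Involutions whose products have order 1, 2 or a prime `p`

`IsTwoPSet p D`: a conjugation invariant set of involutions in which two members either commute or
have product of order `p`.  This file has the dihedral calculus, the fact that in a solvable group
such a set has no element `y` moving the product of two commuting members `x, a` to a non-commuting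
element, and the structure of a set of involutions with all products of order `p`.
-/

set_option autoImplicit false

namespace CfsgLib.TwoPTransp

open CfsgLib.Invol

universe u

variable {G : Type u} [Group G]

/-- Conjugation invariant involutions, two of which commute or have product of order `p`. -/
structure IsTwoPSet (p : ℕ) (D : Set G) : Prop where
  invol : ∀ d ∈ D, orderOf d = 2
  conj : ∀ g : G, ∀ d ∈ D, g * d * g⁻¹ ∈ D
  dich : ∀ x ∈ D, ∀ y ∈ D, Commute x y ∨ (x * y) ^ p = 1

theorem commute_iff_conj_eq {x y : G} (hx : x * x = 1) : Commute x y ↔ x * y * x = y := by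
  constructor
  · intro h
    rw [h.eq, mul_assoc, hx, mul_one]
  · intro h
    show x * y = y * x
    conv_rhs => rw [← h]
    rw [mul_assoc (x * y), hx, mul_one]

theorem eq_of_sq_eq {a b : G} {p : ℕ} (hodd : Odd p) (ha : a ^ p = 1) (hb : b ^ p = 1)
    (h : a ^ 2 = b ^ 2) : a = b := by
  obtain ⟨m, rfl⟩ := hodd
  have key : ∀ c : G, c ^ (2 * m + 1) = 1 → c = (c ^ 2) ^ (m + 1) := fun c hc => by
    rw [← pow_mul, show 2 * (m + 1) = (2 * m + 1) + 1 by ring, pow_succ, hc, one_mul]
  rw [key a ha, key b hb, h]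

theorem eq_one_of_pow_two_of_pow {a : G} {p : ℕ} (hodd : Odd p) (h2 : a ^ 2 = 1)
    (hp : a ^ p = 1) : a = 1 :=
  eq_of_sq_eq hodd hp (one_pow p) (by rw [h2, one_pow])

namespace IsTwoPSet

variable {p : ℕ} {D : Set G} (h : IsTwoPSet p D)
include h

theorem sq {d : G} (hd : d ∈ D) : d * d = 1 := mul_self_eq_one (h.invol d hd)

theorem inv {d : G} (hd : d ∈ D) : d⁻¹ = d := inv_eq_self (h.invol d hd)

theorem ne_one {d : G} (hd : d ∈ D) : d ≠ 1 := ne_one_of_invol (h.invol d hd)

theorem conj' {x d : G} (hx : x ∈ D) (hd : d ∈ D) : x * d * x ∈ D := by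
  have := h.conj x d hd
  rwa [h.inv hx] at this

theorem pow_eq_one {x y : G} (hx : x ∈ D) (hy : y ∈ D) (hn : ¬ Commute x y) : (x * y) ^ p = 1 :=
  (h.dich x hx y hy).resolve_left hn

theorem mul_ne_one {x y : G} (hx : x ∈ D) (hn : ¬ Commute x y) : x * y ≠ 1 := fun e => by
  apply hn
  rw [← inv_eq_of_mul_eq_one_right e, h.inv hx]

theorem orderOf_mul [hp : Fact p.Prime] {x y : G} (hx : x ∈ D) (hy : y ∈ D)
    (hn : ¬ Commute x y) : orderOf (x * y) = p :=
  orderOf_eq_prime (h.pow_eq_one hx hy hn) (h.mul_ne_one hx hn)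

/-- `z` and its image under a non-commuting member do not commute. -/
theorem not_commute_conj (hodd : Odd p) {z u : G} (hz : z ∈ D) (hu : u ∈ D)
    (hn : ¬ Commute z u) : ¬ Commute z (u * z * u) := fun hc => by
  have h4 : ((z * u) ^ 2) ^ 2 = 1 := by
    rw [show (z * u) ^ 2 = z * (u * z * u) by rw [pow_two]; group, hc.mul_pow, pow_two, pow_two,
      h.sq hz, h.sq (h.conj' hu hz), mul_one]
  have hp := h.pow_eq_one hz hu hn
  have h2 : (z * u) ^ 2 = 1 := eq_one_of_pow_two_of_pow hodd h4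
    (by rw [← pow_mul, mul_comm, pow_mul, hp, one_pow])
  exact h.mul_ne_one hz hn (eq_one_of_pow_two_of_pow hodd h2 hp)

/-- The midpoint is unique. -/
theorem midpoint_unique (hodd : Odd p) {z x a : G} (hz : z ∈ D) (hx : x ∈ D) (ha : a ∈ D)
    (hn : ¬ Commute z x) (he : x * z * x = a * z * a) : x = a := by
  have hna : ¬ Commute z a := fun hc => hn <| Commute.symm <| (commute_iff_conj_eq (h.sq hx)).2 <| by
    rw [he, ((commute_iff_conj_eq (h.sq ha)).1 hc.symm)]
  refine mul_left_cancel (eq_of_sq_eq hodd (h.pow_eq_one hz hx hn) (h.pow_eq_one hz ha hna) ?_)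
  rw [pow_two, pow_two]
  calc z * x * (z * x) = z * (x * z * x) := by group
    _ = z * (a * z * a) := by rw [he]
    _ = z * a * (z * a) := by group

/-- A member fixed by the product of two distinct commuting members commutes with both. -/
theorem commute_of_fixed (hodd : Odd p) {d x a : G} (hd : d ∈ D) (hx : x ∈ D) (ha : a ∈ D)
    (hne : x ≠ a) (hc : Commute d (x * a)) : Commute d x ∧ Commute d a := by
  have he : a * d * a = x * d * x := by
    have h1 : x * a * d * (a * x) = d := by
      calc x * a * d * (a * x) = d * (x * a) * (a * x) := by rw [hc.eq]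
        _ = d * x * (a * a) * x := by group
        _ = d := by rw [h.sq ha, mul_one, mul_assoc, h.sq hx, mul_one]
    calc a * d * a = x * x * (a * d * a) * (x * x) := by rw [h.sq hx, one_mul, mul_one]
      _ = x * (x * a * d * (a * x)) * x := by group
      _ = x * d * x := by rw [h1]
  have hdx : Commute d x := by
    by_contra hn
    exact hne (h.midpoint_unique hodd hd hx ha hn he.symm)
  refine ⟨hdx, Commute.symm <| (commute_iff_conj_eq (h.sq ha)).2 ?_⟩
  rw [he, (commute_iff_conj_eq (h.sq hx)).1 hdx.symm]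

/-- The two possibilities for `(y u)`, `u` a product of commuting members. -/
theorem quad_or {x a y : G} (hx : x ∈ D) (ha : a ∈ D) (hy : y ∈ D) (hxa : Commute x a) :
    (y * (x * a)) ^ 4 = 1 ∨ (y * (x * a)) ^ (2 * p) = 1 := by
  have hu2 : (x * a) * (x * a) = 1 := by
    rw [← pow_two, hxa.mul_pow, pow_two, pow_two, h.sq hx, h.sq ha, mul_one]
  have hz : (x * a) * y * (x * a) ∈ D := by
    have := h.conj (x * a) y hy
    rwa [inv_eq_of_mul_eq_one_right hu2] at this
  have hsq : (y * (x * a)) ^ 2 = y * ((x * a) * y * (x * a)) := by rw [pow_two]; group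
  rcases h.dich y hy _ hz with hc | hp
  · left
    rw [show 4 = 2 * 2 from rfl, pow_mul, hsq, hc.mul_pow, pow_two, pow_two, h.sq hy, h.sq hz,
      mul_one]
  · right
    rw [pow_mul, hsq, hp]

theorem comap_subgroup (K : Subgroup G) : IsTwoPSet p {k : K | (k : G) ∈ D} where
  invol d hd := by rw [← Subgroup.orderOf_coe]; exact h.invol _ hd
  conj g d hd := h.conj (g : G) _ hd
  dich x hx y hy := (h.dich _ hx _ hy).imp (fun hc => Subtype.ext hc) fun hp => Subtype.ext <| by
    simpa using hp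

theorem map {K : Type*} [Group K] (f : G →* K) (hf : Function.Surjective f) :
    IsTwoPSet p (f '' D \ {1}) where
  invol := by
    rintro _ ⟨⟨d, hd, rfl⟩, h1⟩
    exact orderOf_eq_two h1 (by rw [← map_mul, h.sq hd, map_one])
  conj := by
    rintro g _ ⟨⟨d, hd, rfl⟩, h1⟩
    obtain ⟨g, rfl⟩ := hf g
    refine ⟨⟨g * d * g⁻¹, h.conj g d hd, by simp [map_mul]⟩, fun e => h1 ?_⟩
    simpa using e
  dich := by
    rintro _ ⟨⟨x, hx, rfl⟩, -⟩ _ ⟨⟨y, hy, rfl⟩, -⟩
    exact (h.dich x hx y hy).imp (fun hc => hc.map f) fun hp => by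
      rw [← map_mul, ← map_pow, hp, map_one]

end IsTwoPSet

/-- In a solvable group a product of two commuting members is never moved to a member at
odd distance. -/
theorem quad_of_solvable {p : ℕ} [hp : Fact p.Prime] (hp5 : 5 ≤ p) {K : Type u} [Group K]
    [Finite K] [Group.IsSolvable K] {D : Set K} (hD : IsTwoPSet p D) {x a y : K} (hx : x ∈ D)
    (ha : a ∈ D) (hy : y ∈ D) (hxa : Commute x a) (hxy : ¬ Commute x y) (hay : ¬ Commute a y) :
    (y * (x * a)) ^ 4 = 1 := by
  obtain ⟨n, hn⟩ : ∃ n, Nat.card K = n := ⟨_, rfl⟩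
  induction n using Nat.strong_induction_on generalizing K with
  | _ n ih =>
  have hodd : Odd p := hp.out.odd_of_ne_two (by omega)
  rcases hD.quad_or hx ha hy hxa with h4 | h2p
  · exact h4
  by_contra h4
  have hne : x ≠ a := by
    rintro rfl
    rw [hD.sq hx, mul_one, show 4 = 2 * 2 from rfl, pow_mul, pow_two y, hD.sq hy, one_pow] at h4
    exact h4 rfl
  obtain ⟨r, hr, hM⟩ : ∃ r : ℕ, r.Prime ∧ Cfsg.pCore r K ≠ ⊥ := by
    by_contra hcon
    push Not at hcon
    have hF : Cfsg.fittingSubgroup K = ⊥ := by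
      rw [Solvable.fittingSubgroup_eq_iSup_pCore]
      simp only [iSup_eq_bot]
      intro q
      exact hcon q.1 (Nat.prime_of_mem_primeFactors q.2)
    have h1 := Solvable.centralizer_fittingSubgroup_le (G := K)
    rw [hF] at h1
    have : x ∈ (⊥ : Subgroup K) := h1 (Subgroup.mem_centralizer_iff.2 fun g hg => by
      rw [Subgroup.mem_bot.1 hg, one_mul, mul_one])
    exact hD.ne_one hx (Subgroup.mem_bot.1 this)
  haveI := Fact.mk hr
  set M := Cfsg.pCore r K with hMdef
  haveI : M.Normal := Solvable.pCore_normal (p := r) K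
  have hMr : IsPGroup r M := Solvable.pCore_isPGroup (p := r) K
  let π := QuotientGroup.mk' M
  have hπ : Function.Surjective π := QuotientGroup.mk'_surjective M
  have hmem : ∀ g, π g = 1 ↔ g ∈ M := fun g => QuotientGroup.eq_one_iff g
  -- an element of `M` killed by a power prime to `r` is trivial
  have hkill : ∀ g ∈ M, ∀ k : ℕ, k.Coprime r → g ^ k = 1 → g = 1 := by
    intro g hg k hk hgk
    obtain ⟨j, hj⟩ := hMr ⟨g, hg⟩
    have hj' : g ^ r ^ j = 1 := congrArg Subtype.val hj
    have h1 := pow_gcd_eq_one.2 ⟨hgk, hj'⟩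
    rwa [(hk.pow_right j).gcd_eq_one, pow_one] at h1
  have hu2 : (x * a) ^ 2 = 1 := by
    rw [hxa.mul_pow, pow_two, pow_two, hD.sq hx, hD.sq ha, mul_one]
  -- the product of the commuting pair lies outside `M`
  have hxaM : x * a ∉ M := by
    intro hmemu
    by_cases hr2 : r = 2
    · have h2mem : (y * (x * a)) ^ 2 ∈ M := by
        rw [pow_two, show y * (x * a) * (y * (x * a)) = (y * (x * a) * y) * (x * a) by group]
        refine M.mul_mem ?_ hmemu
        have := ‹M.Normal›.conj_mem _ hmemu y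
        rwa [hD.inv hy] at this
      have := hkill _ h2mem p (by rw [hr2]; exact Nat.coprime_two_right.2 hodd)
        (by rw [← pow_mul, h2p])
      exact h4 (by rw [show 4 = 2 * 2 from rfl, pow_mul, this, one_pow])
    · have := hkill _ hmemu 2 ((Nat.coprime_primes Nat.prime_two hr).2 (Ne.symm hr2)) hu2
      exact hne (by rw [← inv_eq_of_mul_eq_one_right this, hD.inv hx])
  -- a non-commuting pair inside `M`
  have hpair : ∀ v w : K, v ∈ D → w ∈ D → Commute v w → v * w ∉ M → ¬ Commute v y → ¬ Commute w y →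
      v * y ∉ M := by
    intro v w hv hw hvw hout hvy hwy hin
    obtain ⟨m, hm⟩ : ∃ m : K, m ∈ M ∧ m * v * m⁻¹ = y := by
      obtain ⟨m, hm, he⟩ := exists_conj_of_odd (hD.sq hv) (hD.sq hy)
        (by rw [hD.orderOf_mul hv hy hvy]; exact hodd)
      obtain ⟨k, hk⟩ := (mem_closure_pair_iff (hD.sq hv) (hD.sq hy)).1 hm
      rcases hk with hk | hk
      · exact ⟨m, hk ▸ M.zpow_mem hin k, he⟩
      · refine ⟨m * v, ?_, ?_⟩
        · rw [hk, mul_assoc, zpow_mul_of_inverts (conj_prod (hD.sq hv) (hD.sq hy)), ← mul_assoc,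
            hD.sq hv, one_mul]
          exact M.zpow_mem hin _
        · rw [mul_inv_rev, hD.inv hv, show m * v * v * (v * m⁻¹) = m * v * (v * v) * m⁻¹ by group,
            hD.sq hv, mul_one, he]
    have hw' : m⁻¹ * w * m ∈ D := by simpa using hD.conj m⁻¹ w hw
    rcases hD.dich v hv _ hw' with hc | hq
    · apply hwy
      have := hc.map (MulAut.conj m).toMonoidHom
      simp only [MulEquiv.coe_toMonoidHom, MulAut.conj_apply, hm.2] at this
      rw [show m * (m⁻¹ * w * m) * m⁻¹ = w by group] at this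
      exact this.symm
    · apply hout
      rw [← hmem]
      have h1 : π m = 1 := (hmem m).2 hm.1
      have e : π (v * w) ^ p = 1 := by
        have := congrArg π hq
        simpa [map_mul, map_pow, h1] using this
      refine eq_one_of_pow_two_of_pow hodd ?_ e
      rw [map_mul, (hvw.map π).mul_pow, pow_two, pow_two, ← map_mul, ← map_mul, hD.sq hv,
        hD.sq hw, map_one, mul_one]
  have hxyM : x * y ∉ M := hpair x a hx ha hxa hxaM hxy hay
  have hayM : a * y ∉ M := hpair a x ha hx hxa.symm (by rw [← hxa.eq]; exact hxaM) hay hxy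
  -- the images
  have himg : ∀ v : K, v ∈ D → v * y ∉ M → ¬ Commute v y → ¬ Commute (π v) (π y) := by
    intro v hv hout hvy hc
    apply hout
    rw [← hmem]
    refine eq_one_of_pow_two_of_pow hodd ?_ (by rw [← map_pow, hD.pow_eq_one hv hy hvy, map_one])
    rw [map_mul, hc.mul_pow, pow_two, pow_two, ← map_mul, ← map_mul, hD.sq hv, hD.sq hy, map_one,
      mul_one]
  have hxn := himg x hx hxyM hxy
  have han := himg a ha hayM hay
  have hmemD : ∀ v ∈ D, ¬ Commute (π v) (π y) → π v ∈ π '' D \ {1} := fun v hv hn' =>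
    ⟨⟨v, hv, rfl⟩, fun e => hn' (by rw [Set.mem_singleton_iff.1 e]; exact Commute.one_left _)⟩
  have hyD : π y ∈ π '' D \ {1} := ⟨⟨y, hy, rfl⟩, fun e => hxn (by
    rw [Set.mem_singleton_iff.1 e]; exact Commute.one_right _)⟩
  have hlt : Nat.card (K ⧸ M) < n := by
    rw [← hn, M.card_eq_card_quotient_mul_card_subgroup]
    exact lt_mul_of_one_lt_right Nat.card_pos (by rw [Subgroup.one_lt_card_iff_ne_bot]; exact hM)
  have h4' := ih _ hlt (hD.map π hπ) (hmemD x hx hxn) (hmemD a ha han) hyD (hxa.map π) hxn han rfl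
  -- so the image of `y` commutes with the image of `x a`
  have h2' : (π y * (π x * π a)) ^ 2 = 1 := by
    refine eq_one_of_pow_two_of_pow hodd (by rw [← pow_mul]; exact h4') ?_
    rw [← pow_mul, ← map_mul, ← map_mul, ← map_pow, h2p, map_one]
  have hcu : Commute (π y) (π x * π a) := by
    show π y * (π x * π a) = π x * π a * π y
    have e1 : (π x * π a)⁻¹ = π x * π a := by
      refine inv_eq_of_mul_eq_one_right ?_
      rw [← map_mul, ← map_mul, ← pow_two, hu2, map_one]
    have e2 : (π y)⁻¹ = π y := by rw [← map_inv, hD.inv hy]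
    rw [pow_two] at h2'
    rw [← inv_eq_of_mul_eq_one_right h2', mul_inv_rev, e1, e2]
  refine hxn ((hD.map π hπ).commute_of_fixed hodd hyD (hmemD x hx hxn) (hmemD a ha han) ?_
    hcu).1.symm
  intro e
  apply hxaM
  rw [← hmem, map_mul, ← e, ← map_mul, hD.sq hx, map_one]

variable [Finite G]

theorem pow_dvd_sylow {r k : ℕ} [hr : Fact r.Prime] (R : Sylow r G) (h : r ^ k ∣ Nat.card G) :
    r ^ k ∣ Nat.card (R : Subgroup G) := by
  rw [Sylow.card_eq_multiplicity]
  exact pow_dvd_pow r ((hr.out.pow_dvd_iff_le_factorization Nat.card_pos.ne').1 h)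

theorem card_conj_mul_card_inf (S : Subgroup G) (x : G) :
    Nat.card {t : G // ∃ s ∈ S, s * x * s⁻¹ = t} *
      Nat.card ↥(S ⊓ Subgroup.centralizer ({x} : Set G)) = Nat.card S := by
  classical
  letI : MulAction S G := MulAction.compHom G ((MulAut.conj).comp S.subtype : S →* MulAut G)
  have hsmul : ∀ (s : S) (t : G), s • t = (s : G) * t * (s : G)⁻¹ := fun _ _ => rfl
  have horb : Nat.card (MulAction.orbit S x) * Nat.card (MulAction.stabilizer S x) = Nat.card S := by
    rw [← Nat.card_prod]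
    exact Nat.card_congr (MulAction.orbitProdStabilizerEquivGroup S x)
  rw [← horb]
  congr 1
  · refine Nat.card_congr (Equiv.subtypeEquivRight fun t => ?_)
    simp [MulAction.mem_orbit_iff, hsmul]
  · refine Nat.card_congr ⟨fun s => ⟨⟨s, s.2.1⟩, ?_⟩, fun s => ⟨s, s.1.2, ?_⟩, fun _ => rfl,
      fun _ => rfl⟩
    · rw [MulAction.mem_stabilizer_iff, hsmul]
      rw [← Subgroup.mem_centralizer_singleton_iff.1 s.2.2 |>.symm]
      group
    · have := s.2
      rw [MulAction.mem_stabilizer_iff, hsmul] at this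
      refine Subgroup.mem_centralizer_singleton_iff.2 ?_
      calc (s : G) * x = ((s : G) * x * (s : G)⁻¹) * (s : G) := by group
        _ = x * s := by rw [this]

/-- A set of involutions with all products of `p`-power order, invariant under its members: the
products lie in one `p`-group and the size is a power of `p`. -/
theorem pairwise_structure {p : ℕ} [hp : Fact p.Prime] (hodd : Odd p) (T : Set G)
    (hne : T.Nonempty) (hinv : ∀ t ∈ T, orderOf t = 2) (hT : ∀ s ∈ T, ∀ t ∈ T, s * t * s ∈ T)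
    (hp' : ∀ s ∈ T, ∀ t ∈ T, ∃ j, (s * t) ^ p ^ j = 1) :
    ∃ P : Subgroup G, IsPGroup p P ∧ (∀ s ∈ T, ∀ t ∈ T, s * t ∈ P) ∧
      ∃ k, Nat.card T = p ^ k := by
  classical
  obtain ⟨x, hx⟩ := hne
  have hord : ∀ t ∈ T, Odd (orderOf (x * t)) := fun t ht => by
    obtain ⟨j, hj⟩ := hp' x hx t ht
    exact (hodd.pow (n := j)).of_dvd_nat (orderOf_dvd_of_pow_eq_one hj)
  set H := Subgroup.closure T with hHdef
  let xH : H := ⟨x, Subgroup.subset_closure hx⟩
  have hxH : orderOf xH = 2 := by rw [← Subgroup.orderOf_coe]; exact hinv x hx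
  have hinvT : ∀ t ∈ T, t⁻¹ = t := fun t ht => inv_eq_self (hinv t ht)
  -- invariance under `H`
  have hconj : ∀ g ∈ H, ∀ t ∈ T, g * t * g⁻¹ ∈ T ∧ g⁻¹ * t * g ∈ T := by
    intro g hg
    induction hg using Subgroup.closure_induction with
    | mem s hs => intro t ht; rw [hinvT s hs]; exact ⟨hT s hs t ht, hT s hs t ht⟩
    | one => intro t ht; simpa using ht
    | mul a b _ _ iha ihb =>
      intro t ht
      refine ⟨?_, ?_⟩
      · rw [show a * b * t * (a * b)⁻¹ = a * (b * t * b⁻¹) * a⁻¹ by group]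
        exact (iha _ (ihb t ht).1).1
      · rw [show (a * b)⁻¹ * t * (a * b) = b⁻¹ * (a⁻¹ * t * a) * b by group]
        exact (ihb _ (iha t ht).2).2
    | inv a _ iha => intro t ht; rw [inv_inv]; exact ⟨(iha t ht).2, (iha t ht).1⟩
  have hiso : Cfsg.IsIsolatedInvolution xH := by
    refine ⟨hxH, fun g hg => Subtype.ext ?_⟩
    have ht : (g : G) * x * (g : G)⁻¹ ∈ T := (hconj g g.2 x hx).1
    have hc : Commute x ((g : G) * x * (g : G)⁻¹) := congrArg Subtype.val hg
    obtain ⟨j, hj⟩ := hp' x hx _ ht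
    have h1 := eq_one_of_pow_two_of_pow (hodd.pow (n := j)) (by
      rw [hc.mul_pow, pow_two, pow_two, mul_self_eq_one (hinv x hx), mul_self_eq_one (hinv _ ht),
        mul_one]) hj
    show (g : G) * x * (g : G)⁻¹ = x
    rw [← inv_eq_of_mul_eq_one_right h1, hinvT x hx]
  set O := Cfsg.pPrimeCore 2 H with hO
  haveI : O.Normal := Solvable.pPrimeCore_normal 2 H
  have hOodd : (Nat.card O).Coprime 2 := Solvable.pPrimeCore_card_coprime 2 H
  have hz := zStar hiso
  -- every member is conjugate to `x` under `O`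
  have horbit : ∀ t ∈ T, ∃ o ∈ O, (o : G) * x * (o : G)⁻¹ = t := by
    intro t ht
    obtain ⟨d, hd, hdt⟩ := exists_conj_of_odd (mul_self_eq_one (hinv x hx))
      (mul_self_eq_one (hinv t ht)) (hord t ht)
    have hdH : d ∈ H := Subgroup.closure_le _ |>.2 (by
      rintro _ (rfl | rfl) <;> exact Subgroup.subset_closure ‹_›) hd
    have hsup : ⊤ ≤ O ⊔ Subgroup.zpowers xH := by
      rw [← Subgroup.closure_closure_coe_preimage (k := T), Subgroup.closure_le]
      rintro ⟨s, hsH⟩ hs
      obtain ⟨e, he, hes⟩ := exists_conj_of_odd (mul_self_eq_one (hinv x hx))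
        (mul_self_eq_one (hinv s hs)) (hord s hs)
      have heH : e ∈ H := Subgroup.closure_le _ |>.2 (by
        rintro _ (rfl | rfl) <;> exact Subgroup.subset_closure ‹_›) he
      have h1 := hz ⟨e, heH⟩
      have h2 : (⟨s, hsH⟩ : H) = (xH * ⟨e, heH⟩ * xH⁻¹ * (⟨e, heH⟩ : H)⁻¹)⁻¹ * xH := by
        apply Subtype.ext
        show s = _
        simp only [Subgroup.coe_mul, Subgroup.coe_inv, xH]
        rw [← hes]
        group
      rw [h2]
      exact Subgroup.mul_mem_sup (O.inv_mem h1) (Subgroup.mem_zpowers _)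
    obtain ⟨o, ho, w, hw, he⟩ := (Subgroup.mem_sup_of_normal_left).1
      (hsup (Subgroup.mem_top (⟨d, hdH⟩ : H)))
    refine ⟨o, ho, ?_⟩
    obtain ⟨i, rfl⟩ := Subgroup.mem_zpowers_iff.1 hw
    have he' : (o : G) * x ^ i = d := by simpa [xH] using congrArg Subtype.val he
    rw [← hdt, ← he']
    group
  -- invariant Sylow subgroups
  have hcop : (Nat.card (Subgroup.zpowers xH)).Coprime (Nat.card O) := by
    rw [Nat.card_zpowers, hxH]; exact hOodd.symm
  have hnorm : Subgroup.zpowers xH ≤ Subgroup.normalizer (O : Set H) := by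
    rw [Subgroup.normalizer_eq_top]; exact le_top
  have hcyc : Group.IsSolvable (Subgroup.zpowers xH) := Group.isSolvable_of_comm fun a b =>
    Std.Commutative.comm a b
  set C := Subgroup.centralizer ({xH} : Set H) with hC
  have hsyl : ∀ r : ℕ, r.Prime → ∃ R : Sylow r O,
      (∀ h ∈ (R : Subgroup O).map O.subtype,
        xH * h * xH⁻¹ ∈ (R : Subgroup O).map O.subtype) := by
    intro r hr
    haveI := Fact.mk hr
    obtain ⟨R, hR⟩ := Solvable.exists_invariant_sylow hnorm hcop (Or.inl hcyc) r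
    exact ⟨R, fun h hh => (Subgroup.mem_normalizer_iff.1 (hR (Subgroup.mem_zpowers xH)) h).1 hh⟩
  obtain ⟨P, hPinv⟩ := hsyl p hp.out
  set PH := (P : Subgroup O).map O.subtype with hPH
  have hPHp : IsPGroup p PH := P.isPGroup'.map _
  have hPO : PH ≤ O := Subgroup.map_subtype_le _
  have hdvd : Nat.card O ∣ Nat.card {t : H // ∃ s ∈ PH, s * xH * s⁻¹ = t} * Nat.card ↥(O ⊓ C) := by
    refine (Nat.dvd_iff_prime_pow_dvd_dvd _ _).2 fun r k hr hrk => ?_
    haveI := Fact.mk hr
    by_cases hrp : r = p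
    · subst hrp
      refine (pow_dvd_sylow P hrk).trans ?_
      rw [show Nat.card ↥(P : Subgroup O) = Nat.card PH from
        Nat.card_congr ((P : Subgroup O).equivMapOfInjective _ O.subtype_injective).toEquiv,
        ← card_conj_mul_card_inf PH xH]
      exact mul_dvd_mul_left _ (Subgroup.card_dvd_of_le (inf_le_inf_right _ hPO))
    · obtain ⟨R, hR⟩ := hsyl r hr
      set RH := (R : Subgroup O).map O.subtype
      have hRC : RH ≤ O ⊓ C := by
        refine le_inf (Subgroup.map_subtype_le _) fun h hh => ?_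
        have h1 : xH * h * xH⁻¹ * h⁻¹ ∈ RH := RH.mul_mem (hR h hh) (RH.inv_mem hh)
        obtain ⟨i, h2⟩ : ∃ i : ℕ, (xH * h * xH⁻¹ * h⁻¹) ^ p ^ i = 1 := by
          have ht : (h : G) * x * (h : G)⁻¹ ∈ T := (hconj h h.2 x hx).1
          obtain ⟨i, hi⟩ := hp' x hx _ ht
          refine ⟨i, ?_⟩
          apply Subtype.ext
          simp only [Subgroup.coe_pow, Subgroup.coe_mul, Subgroup.coe_inv, Subgroup.coe_one, xH]
          rw [show x * (h : G) * x⁻¹ * (h : G)⁻¹ = x * ((h : G) * x⁻¹ * (h : G)⁻¹) by group,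
            hinvT x hx]
          exact hi
        obtain ⟨j, hj⟩ := (R.isPGroup'.map O.subtype) ⟨_, h1⟩
        have hj' : (xH * h * xH⁻¹ * h⁻¹) ^ r ^ j = 1 := congrArg Subtype.val hj
        have h3 := pow_gcd_eq_one.2 ⟨h2, hj'⟩
        rw [((((Nat.coprime_primes hp.out hr).2 (Ne.symm hrp)).pow_left i).pow_right j).gcd_eq_one,
          pow_one] at h3
        rw [Subgroup.mem_centralizer_singleton_iff]
        calc h * xH = (xH * h * xH⁻¹ * h⁻¹) * h * xH := by rw [h3, one_mul]
          _ = xH * h := by group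
      refine ((pow_dvd_sylow R hrk).trans ?_).trans (dvd_mul_left _ _)
      rw [show Nat.card ↥(R : Subgroup O) = Nat.card RH from
        Nat.card_congr ((R : Subgroup O).equivMapOfInjective _ O.subtype_injective).toEquiv]
      exact Subgroup.card_dvd_of_le hRC
  set SP := {t : H | ∃ s ∈ PH, s * xH * s⁻¹ = t} with hSP
  set SO := {t : H | ∃ s ∈ O, s * xH * s⁻¹ = t} with hSO
  have hsub : SP ⊆ SO := fun t ⟨s, hs, he⟩ => ⟨s, hPO hs, he⟩
  have heq : SP = SO := by
    refine Set.eq_of_subset_of_ncard_le hsub ?_ (Set.toFinite _)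
    rw [← Nat.card_coe_set_eq, ← Nat.card_coe_set_eq]
    have h1 := card_conj_mul_card_inf O xH
    have hpos : 0 < Nat.card ↥(O ⊓ C) := Nat.card_pos
    have hposP : 0 < Nat.card SP := by
      haveI : Nonempty SP := ⟨⟨xH, 1, PH.one_mem, by group⟩⟩
      exact Nat.card_pos
    refine Nat.le_of_mul_le_mul_right ?_ hpos
    exact h1.le.trans (Nat.le_of_dvd (Nat.mul_pos hposP hpos) hdvd)
  have himg : ∀ t ∈ T, ∃ s ∈ PH, (s : G) * x * (s : G)⁻¹ = t := by
    intro t ht
    obtain ⟨o, ho, he⟩ := horbit t ht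
    have hmem : o * xH * o⁻¹ ∈ SP := by rw [heq]; exact ⟨o, ho, rfl⟩
    obtain ⟨s, hs, hse⟩ := hmem
    exact ⟨s, hs, by rw [← he]; simpa [xH] using congrArg Subtype.val hse⟩
  refine ⟨PH.map H.subtype, hPHp.map _, fun s hs t ht => ?_, ?_⟩
  · obtain ⟨a, ha, hae⟩ := himg s hs
    obtain ⟨b, hb, hbe⟩ := himg t ht
    refine ⟨a * xH * (a⁻¹ * b) * xH⁻¹ * b⁻¹, PH.mul_mem ?_ (PH.inv_mem hb), ?_⟩
    · have := PH.mul_mem ha (hPinv _ (PH.mul_mem (PH.inv_mem ha) hb))
      simpa [mul_assoc] using this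
    · rw [← hae, ← hbe]
      simp only [Subgroup.coe_subtype, Subgroup.coe_mul, Subgroup.coe_inv, xH]
      rw [hinvT x hx]
      group
  · have hbij : Nat.card T = Nat.card SP := by
      refine Nat.card_congr (Equiv.ofBijective (fun t => (⟨⟨t.1, Subgroup.subset_closure t.2⟩, by
        obtain ⟨s, hs, he⟩ := himg t.1 t.2
        exact ⟨s, hs, Subtype.ext (by simpa [xH] using he)⟩⟩ : SP)) ⟨?_, ?_⟩)
      · intro a b hab
        exact Subtype.ext (congrArg (fun z : SP => ((z : H) : G)) hab)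
      · rintro ⟨t, s, hs, rfl⟩
        exact ⟨⟨_, (hconj s s.2 x hx).1⟩, rfl⟩
    obtain ⟨n, hn⟩ := hPHp.exists_card_eq
    obtain ⟨k, -, hk⟩ := (Nat.dvd_prime_pow hp.out).1
      (hn ▸ Dvd.intro _ (card_conj_mul_card_inf PH xH) : Nat.card SP ∣ p ^ n)
    exact ⟨k, hbij.trans hk⟩

end CfsgLib.TwoPTransp
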