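import Cfsg.Agent.Lib.TwoPTransp.Twins

/-!
# A minimal non-solvable group generated by {2,p}-transpositions, second part

The classes of the commuting relation have size `p`, an element of order `p` fixes a multiple of
`p` of them, and the members inverting a product of two transposers count these classes in a
contradictory way.
-/

set_option autoImplicit false

namespace CfsgLib.TwoPTransp

open CfsgLib.Invol

universe u

variable {G : Type u} [Group G]

/-- The members commuting with `x`. -/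
def Blk (D : Set G) (x : G) : Set G := {d ∈ D | Commute d x}

/-- The members taking the class of `z` to that of `w`. -/
def Transp (D : Set G) (z w : G) : Set G := {d ∈ D | Commute (d * z * d) w}

variable [Finite G]

theorem exponent_one_of_add_one_pow_two {p k r : ℕ} (hodd : Odd p) (hp : 3 ≤ p) (hk : 1 ≤ k)
    (h : p ^ k + 1 = 2 ^ r) : k = 1 := by
  obtain ⟨q, rfl⟩ := hodd
  rcases Nat.even_or_odd k with ⟨j, hj⟩ | hk'
  · exfalso
    have h4 : (2 * q + 1) ^ k % 4 = 1 := by
      rw [hj, ← two_mul, pow_mul, Nat.pow_mod,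
        show (2 * q + 1) ^ 2 % 4 = 1 by
          rw [show (2 * q + 1) ^ 2 = 4 * (q * q + q) + 1 by ring]; omega]
      simp
    have hbig : 2 * q + 1 ≤ (2 * q + 1) ^ k := Nat.le_self_pow (by omega) _
    rcases r with _ | _ | r
    · omega
    · rw [zero_add, pow_one] at h; omega
    · have : 2 ^ (r + 1 + 1) % 4 = 0 := by rw [pow_succ, pow_succ]; omega
      omega
  · obtain ⟨j, hj⟩ := hk'
    set p := 2 * q + 1 with hpdef
    have hsq : p ^ 2 ≡ 1 [MOD 2 * (p + 1)] := by
      refine ((Nat.modEq_iff_dvd' (Nat.one_le_pow _ _ (by omega))).2 ⟨q, ?_⟩).symm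
      rw [hpdef]
      refine Nat.sub_eq_of_eq_add ?_
      ring
    have h1 : p ^ k + 1 ≡ p + 1 [MOD 2 * (p + 1)] := by
      refine Nat.ModEq.add_right 1 ?_
      rw [hj, pow_succ, pow_mul]
      simpa using (hsq.pow j).mul_right p
    have hdvd1 : p + 1 ∣ 2 ^ r := by
      rw [← h]
      have h2 : p ^ k + 1 ≡ p + 1 [MOD p + 1] := h1.of_mul_left 2
      exact (Nat.ModEq.dvd_iff h2 dvd_rfl).2 dvd_rfl
    obtain ⟨s, hsr, hs⟩ := (Nat.dvd_prime_pow Nat.prime_two).1 hdvd1
    rcases Nat.lt_or_ge s r with hlt | hge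
    · exfalso
      have hdvd2 : 2 * (p + 1) ∣ p ^ k + 1 := by
        rw [h, hs, ← pow_succ']
        exact Nat.pow_dvd_pow 2 hlt
      have := (Nat.ModEq.dvd_iff h1 dvd_rfl).1 hdvd2
      have := Nat.le_of_dvd (by omega) this
      omega
    · have hsr' : s = r := le_antisymm hsr hge
      have he : p ^ k = p ^ 1 := by rw [pow_one]; rw [hsr', ← h] at hs; omega
      exact Nat.pow_right_injective (by omega) he

namespace Minimal

variable {p : ℕ} [hp : Fact p.Prime] {D : Set G} (hM : Minimal p D)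
include hM

theorem maps {g x y b : G} (hx : x ∈ D) (hy : y ∈ D) (hb : b ∈ D) (hg : Commute (g * x * g⁻¹) y)
    (hbx : Commute b x) : Commute (g * b * g⁻¹) y := by
  have := hbx.map (MulAut.conj g).toMonoidHom
  simp only [MulEquiv.coe_toMonoidHom, MulAut.conj_apply] at this
  exact hM.commute_trans (hM.set.conj g x hx) hy (hM.set.conj g b hb) hg this

theorem exists_not_commute {x : G} (hx : x ∈ D) : ∃ w ∈ D, ¬ Commute x w := by
  by_contra hcon
  push Not at hcon
  exact hM.set.ne_one hx (hM.eq_one_of_central hcon)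

/-- A non-trivial product of two commuting members does not fix an outside class. -/
theorem commute_of_maps_self {u z : G} (hu : u ∈ D) (hz : z ∈ D)
    (h : Commute z (u * z * u)) : Commute z u := by
  by_contra hn
  exact hM.set.not_commute_conj hM.odd hz hu hn h

theorem transp_symm {z w d : G} (hd : d ∈ Transp D z w) : Commute z (d * w * d) := by
  have := hd.2.map (MulAut.conj d).toMonoidHom
  simp only [MulEquiv.coe_toMonoidHom, MulAut.conj_apply, hM.set.inv hd.1] at this
  rwa [show d * (d * z * d) * d = (d * d) * z * (d * d) by group, hM.set.sq hd.1, one_mul,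
    mul_one] at this

theorem transp_not_commute {z w d : G} (hz : z ∈ D) (hw : w ∈ D) (hzw : ¬ Commute z w)
    (hd : d ∈ Transp D z w) : ¬ Commute z d := by
  intro hc
  apply hzw
  have := hd.2
  rwa [(commute_iff_conj_eq (hM.set.sq hd.1)).1 hc.symm] at this

theorem transp_conj {z w : G} (hz : z ∈ D) (hw : w ∈ D) :
    ∀ s ∈ Transp D z w, ∀ t ∈ Transp D z w, s * t * s ∈ Transp D z w := by
  intro s hs t ht
  refine ⟨hM.set.conj' hs.1 ht.1, ?_⟩
  have h1 : Commute (t * (s * z * s) * t) z := by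
    have := hM.maps (g := t) hw hz (hM.set.conj' hs.1 hz)
      (by rw [hM.set.inv ht.1]; exact (hM.transp_symm ht).symm) hs.2
    rwa [hM.set.inv ht.1] at this
  have h2 := hM.maps (g := s) hz hw (hM.set.conj' ht.1 (hM.set.conj' hs.1 hz))
    (by rw [hM.set.inv hs.1]; exact hs.2) h1
  rw [hM.set.inv hs.1] at h2
  rwa [show s * t * s * z * (s * t * s) = s * (t * (s * z * s) * t) * s by group]

theorem transp_pairwise {z w : G} (hz : z ∈ D) (hw : w ∈ D) (hzw : ¬ Commute z w)
    {s t : G} (hs : s ∈ Transp D z w) (ht : t ∈ Transp D z w) (hst : s ≠ t) : ¬ Commute s t := by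
  intro hc
  have hu := hM.mul_mem hs.1 ht.1 hst hc
  have h1 := hM.maps (g := s) hw hz (hM.set.conj' ht.1 hz)
    (by rw [hM.set.inv hs.1]; exact (hM.transp_symm hs).symm) ht.2
  rw [hM.set.inv hs.1] at h1
  have h2 : Commute z (s * t) := hM.commute_of_maps_self hu hz (by
    have e2 : s * t * z * (s * t) = s * (t * z * t) * s := by
      calc s * t * z * (s * t) = s * t * z * (t * s) := by rw [hc.eq]
        _ = s * (t * z * t) * s := by group
    rw [e2]
    exact h1.symm)
  exact hM.transp_not_commute hz hw hzw hs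
    (hM.commute_trans hu hs.1 hz ((Commute.refl s).mul_left hc.symm) h2)

theorem transp_pow {z w : G} (hz : z ∈ D) (hw : w ∈ D) (hzw : ¬ Commute z w)
    {s t : G} (hs : s ∈ Transp D z w) (ht : t ∈ Transp D z w) : (s * t) ^ p = 1 := by
  by_cases h : s = t
  · rw [h, hM.set.sq ht.1, one_pow]
  · exact hM.set.pow_eq_one hs.1 ht.1 (hM.transp_pairwise hz hw hzw hs ht h)

/-- There is a unique member taking `z` to `w`. -/
theorem exists_midpoint {z w : G} (hz : z ∈ D) (hw : w ∈ D) (hzw : ¬ Commute z w) :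
    ∃ d ∈ D, d * z * d = w := by
  obtain ⟨m, hm⟩ := hM.odd
  obtain ⟨r, hr, he⟩ := exists_conj_of_odd (hM.set.sq hz) (hM.set.sq hw)
    (by rw [hM.set.orderOf_mul hz hw hzw]; exact hM.odd)
  have hpow := hM.set.pow_eq_one hz hw hzw
  have hrefl : ∀ k : ℤ, z * (z * w) ^ k ∈ D := by
    intro k
    have := hM.set.conj ((z * w) ^ (-(k * (m + 1)))) z hz
    rw [conj_by_zpow (hM.set.sq hz) (hM.set.sq hw),
      show -2 * -(k * ((m : ℤ) + 1)) = k + ((p : ℕ) : ℤ) * k by rw [hm]; push_cast; ring,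
      zpow_add, zpow_mul, zpow_natCast, hpow, one_zpow, mul_one] at this
    exact this
  obtain ⟨k, hk⟩ := (mem_closure_pair_iff (hM.set.sq hz) (hM.set.sq hw)).1 hr
  rcases hk with hk | hk
  · refine ⟨r * z, ?_, ?_⟩
    · rw [hk, zpow_mul_of_inverts (conj_prod (hM.set.sq hz) (hM.set.sq hw))]
      exact hrefl _
    · have hrz : r * z ∈ D := by
        rw [hk, zpow_mul_of_inverts (conj_prod (hM.set.sq hz) (hM.set.sq hw))]; exact hrefl _
      have e := hM.set.inv hrz
      rw [mul_inv_rev, hM.set.inv hz] at e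
      calc r * z * z * (r * z) = r * z * z * (z * r⁻¹) := by rw [← e]
        _ = r * (z * z) * z * r⁻¹ := by group
        _ = r * z * r⁻¹ := by rw [hM.set.sq hz, mul_one]
        _ = w := he
  · have hrD : r ∈ D := hk ▸ hrefl k
    exact ⟨r, hrD, by rw [← he, hM.set.inv hrD]⟩

theorem card_transp {z w : G} (hz : z ∈ D) (hw : w ∈ D) (hzw : ¬ Commute z w) :
    Nat.card (Transp D z w) = Nat.card (Blk D w) := by
  refine Nat.card_congr (Equiv.ofBijective
    (fun d => (⟨(d : G) * z * d, hM.set.conj' d.2.1 hz, d.2.2⟩ : Blk D w)) ⟨?_, ?_⟩)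
  · intro a b hab
    exact Subtype.ext (hM.set.midpoint_unique hM.odd hz a.2.1 b.2.1
      (hM.transp_not_commute hz hw hzw a.2) (congrArg Subtype.val hab))
  · rintro ⟨v, hv, hvw⟩
    obtain ⟨d, hd, he⟩ := hM.exists_midpoint hz hv fun hc => hzw (hM.commute_trans hv hw hz hvw hc)
    exact ⟨⟨d, hd, by rw [he]; exact hvw⟩, Subtype.ext he⟩

theorem transp_nonempty {z w : G} (hz : z ∈ D) (hw : w ∈ D) (hzw : ¬ Commute z w) :
    ∃ d ∈ Transp D z w, d * z * d = w := by
  obtain ⟨d, hd, he⟩ := hM.exists_midpoint hz hw hzw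
  exact ⟨d, ⟨hd, by rw [he]⟩, he⟩

theorem card_blk_conj (g : G) {x : G} :
    Nat.card (Blk D (g * x * g⁻¹)) = Nat.card (Blk D x) := by
  refine Nat.card_congr ((Equiv.subtypeEquiv (MulAut.conj g).toEquiv fun d => ?_).symm)
  show d ∈ Blk D x ↔ g * d * g⁻¹ ∈ Blk D (g * x * g⁻¹)
  constructor
  · exact fun h => ⟨hM.set.conj g d h.1, h.2.map (MulAut.conj g).toMonoidHom⟩
  · rintro ⟨h1, h2⟩
    refine ⟨by simpa [mul_assoc] using hM.set.conj g⁻¹ _ h1, ?_⟩
    simpa [mul_assoc] using h2.map (MulAut.conj g⁻¹).toMonoidHom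

theorem exists_commute : ∃ x ∈ D, ∃ a ∈ D, x ≠ a ∧ Commute x a := by
  by_contra hcon
  push Not at hcon
  obtain ⟨x, hx⟩ : D.Nonempty := by
    by_contra h
    rw [Set.not_nonempty_iff_eq_empty] at h
    apply hM.nonsolv
    have := hM.gen
    rw [h, Subgroup.closure_empty] at this
    exact Group.isSolvable_of_top_eq_bot G this.symm
  obtain ⟨P, hP, hPm, -⟩ := pairwise_structure (p := p) hM.odd D ⟨x, hx⟩ hM.set.invol
    (fun s hs t ht => hM.set.conj' hs ht) fun s hs t ht => ⟨1, by
      rw [pow_one]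
      by_cases h : s = t
      · rw [h, hM.set.sq ht, one_pow]
      · exact hM.set.pow_eq_one hs ht (hcon s hs t ht h)⟩
  set N := Subgroup.closure {g : G | ∃ s ∈ D, ∃ t ∈ D, s * t = g}
  have hNP : IsPGroup p N := hP.to_le ((Subgroup.closure_le _).2 (by
    rintro _ ⟨s, hs, t, ht, rfl⟩; exact hPm s hs t ht))
  haveI : Group.IsNilpotent N := hNP.isNilpotent
  have hNn : N.Normal := by
    refine ⟨fun n hn g => ?_⟩
    have hle : N.map (MulAut.conj g).toMonoidHom ≤ N := by
      rw [MonoidHom.map_closure]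
      refine Subgroup.closure_mono ?_
      rintro _ ⟨_, ⟨s, hs, t, ht, rfl⟩, rfl⟩
      exact ⟨_, hM.set.conj g s hs, _, hM.set.conj g t ht, by simp⟩
    exact hle ⟨n, hn, rfl⟩
  have hbot := hM.rad N hNn inferInstance
  refine hM.set.ne_one hx (hM.eq_one_of_central fun d hd => ?_)
  have : x * d ∈ N := Subgroup.subset_closure ⟨x, hx, d, hd, rfl⟩
  rw [hbot, Subgroup.mem_bot] at this
  rw [← inv_eq_of_mul_eq_one_right this, hM.set.inv hx]

/-- Every class has exactly `p` members. -/
theorem card_blk {x : G} (hx : x ∈ D) : Nat.card (Blk D x) = p := by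
  have hodd := hM.odd
  obtain ⟨y, hy, hxy⟩ := hM.exists_not_commute hx
  obtain ⟨d, hd, hde⟩ := hM.transp_nonempty hx hy hxy
  obtain ⟨-, -, -, k, hk⟩ := pairwise_structure (p := p) hodd (Transp D x y) ⟨d, hd⟩
    (fun t ht => hM.set.invol t ht.1) (hM.transp_conj hx hy)
    (fun s hs t ht => ⟨1, by rw [pow_one]; exact hM.transp_pow hx hy hxy hs ht⟩)
  obtain ⟨g, hg⟩ := isConj_iff.1 (hM.single x hx y hy)
  rw [hM.card_transp hx hy hxy, ← hg, hM.card_blk_conj g] at hk
  -- the class with `1` is an elementary abelian 2-group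
  let E : Subgroup G :=
    { carrier := insert 1 (Blk D x)
      one_mem' := Set.mem_insert 1 _
      mul_mem' := by
        rintro a b (rfl | ha) (rfl | hb)
        · simp
        · rw [one_mul]; exact Or.inr hb
        · rw [mul_one]; exact Or.inr ha
        · by_cases h : a = b
          · left; rw [h, hM.set.sq hb.1]
          · exact Or.inr ⟨hM.mul_mem ha.1 hb.1 h (hM.commute_trans hx hb.1 ha.1 hb.2.symm ha.2),
              ha.2.mul_left hb.2⟩
      inv_mem' := by
        rintro a (rfl | ha)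
        · simp
        · rw [hM.set.inv ha.1]; exact Or.inr ha }
  haveI : Fact (Nat.Prime 2) := ⟨Nat.prime_two⟩
  have hE2 : IsPGroup 2 E := fun e => ⟨1, Subtype.ext (by
    rw [Subgroup.coe_pow, Subgroup.coe_one, pow_one, pow_two]
    obtain ⟨e, rfl | he⟩ := e
    · exact one_mul 1
    · exact hM.set.sq he.1)⟩
  obtain ⟨r, hr⟩ := hE2.exists_card_eq
  have hE : Nat.card E = Nat.card (Blk D x) + 1 := by
    rw [Nat.card_coe_set_eq (Blk D x),
      ← Set.ncard_insert_of_notMem (fun h => hM.set.ne_one h.1 rfl) (Set.toFinite _),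
      ← Nat.card_coe_set_eq]
    rfl
  have hk1 : 1 ≤ k := by
    by_contra hk0
    obtain ⟨a, ha, b, hb, hab, hc⟩ := hM.exists_commute
    obtain ⟨g, hg⟩ := isConj_iff.1 (hM.single x hx a ha)
    rw [show k = 0 by omega, pow_zero] at hk
    have h1 := hM.card_blk_conj g (x := x)
    rw [hg, hk] at h1
    haveI := (Nat.card_eq_one_iff_unique.1 h1).1
    exact hab (congrArg Subtype.val (Subsingleton.elim (⟨a, ha, Commute.refl a⟩ : Blk D a)
      ⟨b, hb, hc.symm⟩))
  rw [hE, hk] at hr
  rw [hk, exponent_one_of_add_one_pow_two hodd (by have := hM.five; omega) hk1 hr, pow_one]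

/-- A `p`-element stabilising a class and fixing one member fixes all of them. -/
theorem fixes_all {c x b : G} (hx : x ∈ D) (hb : b ∈ Blk D x)
    (hc : ∃ j, orderOf c = p ^ j) (hst : Commute (c * x * c⁻¹) x) (hcb : Commute c b) :
    ∀ v ∈ Blk D x, Commute c v := by
  intro v hv
  by_contra hcv
  set S := Subgroup.zpowers c
  set orb := {t : G | ∃ s ∈ S, s * v * s⁻¹ = t} with horb
  -- all powers stabilise the class
  have hstab : ∀ s ∈ S, ∀ d ∈ Blk D x, s * d * s⁻¹ ∈ Blk D x := by
    have hnat : ∀ i : ℕ, Commute (c ^ i * x * (c ^ i)⁻¹) x := by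
      intro i
      induction i with
      | zero => simp
      | succ i ih =>
        rw [show c ^ (i + 1) * x * (c ^ (i + 1))⁻¹ = c * (c ^ i * x * (c ^ i)⁻¹) * c⁻¹ by
          rw [pow_succ']; group]
        exact hM.maps hx hx (hM.set.conj _ x hx) hst ih
    intro s hs d hd
    obtain ⟨i, rfl⟩ := (isOfFinOrder_of_finite c).mem_powers_iff_mem_zpowers.2 hs
    exact ⟨hM.set.conj _ d hd.1, hM.maps hx hx hd.1 (hnat i) hd.2⟩
  have hsub : orb ⊆ Blk D x \ {b} := by
    rintro _ ⟨s, hs, rfl⟩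
    refine ⟨hstab s hs v hv, fun e => hcv ?_⟩
    rw [Set.mem_singleton_iff] at e
    obtain ⟨i, hi⟩ := Subgroup.mem_zpowers_iff.1 hs
    have hsb : Commute s b := hi ▸ hcb.zpow_left i
    have hv' : v = b := by
      calc v = s⁻¹ * (s * v * s⁻¹) * s := by group
        _ = s⁻¹ * b * s := by rw [e]
        _ = b := by rw [mul_assoc, ← hsb.eq]; group
    exact hv' ▸ hcb
  have hdvd : Nat.card orb ∣ Nat.card S := Dvd.intro _ (card_conj_mul_card_inf S v)
  obtain ⟨j, hj⟩ := hc
  rw [Nat.card_zpowers, hj] at hdvd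
  obtain ⟨i, -, hi⟩ := (Nat.dvd_prime_pow hp.out).1 hdvd
  have hlt : Nat.card orb < p := by
    have h1 := hM.card_blk hx
    rw [Nat.card_coe_set_eq] at h1 ⊢
    have h2 := Set.ncard_le_ncard hsub (Set.toFinite _)
    rw [Set.ncard_sdiff_singleton_of_mem hb] at h2
    have := hp.out.two_le
    omega
  have hi0 : i = 0 := by
    by_contra h
    have := Nat.le_self_pow h p
    omega
  rw [hi0, pow_zero] at hi
  haveI := (Nat.card_eq_one_iff_unique.1 hi).1
  have h1 : c * v * c⁻¹ = v := congrArg Subtype.val (Subsingleton.elim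
    (⟨c * v * c⁻¹, c, Subgroup.mem_zpowers c, rfl⟩ : orb) ⟨v, 1, S.one_mem, by group⟩)
  exact hcv (show c * v = v * c from mul_inv_eq_iff_eq_mul.1 h1)

/-- Only the identity centralises a class and an outside member. -/
theorem eq_one_of_centralize {c z w : G} (hz : z ∈ D) (hw : w ∈ D) (hzw : ¬ Commute z w)
    (hcz : ∀ v ∈ Blk D z, Commute c v) (hcw : Commute c w) : c = 1 := by
  obtain ⟨a, ha, haz⟩ : ∃ a ∈ Blk D z, a ≠ z := by
    have h1 := hM.card_blk hz
    rw [Nat.card_coe_set_eq] at h1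
    exact Set.exists_ne_of_one_lt_ncard (by have := hp.out.one_lt; omega) z
  set H := Subgroup.closure (Blk D z ∪ {w}) with hH
  have hHtop : H = ⊤ := by
    by_contra hne
    have haw : ¬ Commute a w := fun hc => hzw (hM.commute_trans ha.1 hz hw ha.2 hc.symm).symm
    have hu : z * a ∈ D := hM.mul_mem hz ha.1 haz.symm ha.2.symm
    have h4 := hM.quad hne hz ha.1 hw
      (Subgroup.subset_closure (Or.inl ⟨hz, Commute.refl z⟩))
      (Subgroup.subset_closure (Or.inl ha)) (Subgroup.subset_closure (Or.inr rfl))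
      ha.2.symm hzw haw
    exact hM.not_quad_of_mem hw hu
      (fun hc => hzw (hM.commute_trans hu hz hw ((Commute.refl z).mul_left ha.2) hc).symm) h4
  refine hM.eq_one_of_central fun d _ => ?_
  have hle : H ≤ Subgroup.centralizer ({c} : Set G) := by
    rw [hH, Subgroup.closure_le]
    rintro v (hv | rfl)
    · exact Subgroup.mem_centralizer_singleton_iff.2 (hcz v hv).symm.eq
    · exact Subgroup.mem_centralizer_singleton_iff.2 hcw.symm.eq
  rw [hHtop] at hle
  exact (Subgroup.mem_centralizer_singleton_iff.1 (hle (Subgroup.mem_top d))).symm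

/-- A `p`-element centralising a class and stabilising another is trivial. -/
theorem eq_one_of_stabilize {c z w : G} (hz : z ∈ D) (hw : w ∈ D) (hzw : ¬ Commute z w)
    (hc : ∃ j, orderOf c = p ^ j) (hcz : ∀ v ∈ Blk D z, Commute c v)
    (hcw : Commute (c * w * c⁻¹) w) : c = 1 := by
  obtain ⟨d, hd, hde⟩ := hM.transp_nonempty hz hw hzw
  have hdd := hM.set.sq hd.1
  have hdi := hM.set.inv hd.1
  have hde' : d * w * d = z := by
    rw [← hde, show d * (d * z * d) * d = (d * d) * z * (d * d) by group, hdd, one_mul, mul_one]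
  set c' := d * c * d with hc'
  have hc'i : c'⁻¹ = d * c⁻¹ * d := by rw [hc', mul_inv_rev, mul_inv_rev, hdi]; group
  have hconjc' : ∀ v, c' * v * c'⁻¹ = d * (c * (d * v * d) * c⁻¹) * d := fun v => by
    rw [hc'i, hc']; group
  have hc'z : Commute (c' * z * c'⁻¹) z := by
    rw [hconjc', hde]
    have := hcw.map (MulAut.conj d).toMonoidHom
    simp only [MulEquiv.coe_toMonoidHom, MulAut.conj_apply, hdi, hde'] at this
    exact this
  have hdmap : ∀ v ∈ Blk D w, d * v * d ∈ Blk D z := fun v hv => by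
    refine ⟨hM.set.conj' hd.1 hv.1, ?_⟩
    have := hv.2.map (MulAut.conj d).toMonoidHom
    simp only [MulEquiv.coe_toMonoidHom, MulAut.conj_apply, hdi, hde'] at this
    exact this
  have hc'w : ∀ v ∈ Blk D w, Commute c' v := fun v hv => by
    show c' * v = v * c'
    refine mul_inv_eq_iff_eq_mul.1 ?_
    rw [hconjc', (hcz _ (hdmap v hv)).eq, mul_inv_cancel_right,
      show d * (d * v * d) * d = (d * d) * v * (d * d) by group, hdd, one_mul, mul_one]
  have hwB : w ∈ Blk D w := ⟨hw, Commute.refl w⟩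
  have hzB : z ∈ Blk D z := ⟨hz, Commute.refl z⟩
  -- `c` and `c'` commute
  have hcomm : Commute c c' := by
    have hk : (c' * c)⁻¹ * (c * c') = 1 := by
      refine hM.eq_one_of_centralize hz hw hzw (fun v hv => ?_) ?_
      · have hv' : c' * v * c'⁻¹ ∈ Blk D z :=
          ⟨hM.set.conj _ v hv.1, hM.maps hz hz hv.1 hc'z hv.2⟩
        show _ * v = v * _
        refine mul_inv_eq_iff_eq_mul.1 ?_
        rw [show (c' * c)⁻¹ * (c * c') * v * ((c' * c)⁻¹ * (c * c'))⁻¹
          = c⁻¹ * c'⁻¹ * (c * (c' * v * c'⁻¹) * c⁻¹) * c' * c by group,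
          (hcz _ hv').eq, mul_inv_cancel_right,
          show c⁻¹ * c'⁻¹ * (c' * v * c'⁻¹) * c' * c = c⁻¹ * (v * c) by group,
          ← (hcz v hv).eq, inv_mul_cancel_left]
      · show _ * w = w * _
        refine mul_inv_eq_iff_eq_mul.1 ?_
        have hw' : c * w * c⁻¹ ∈ Blk D w := ⟨hM.set.conj _ w hw, hcw⟩
        rw [show (c' * c)⁻¹ * (c * c') * w * ((c' * c)⁻¹ * (c * c'))⁻¹
          = c⁻¹ * c'⁻¹ * (c * (c' * w * c'⁻¹) * c⁻¹) * c' * c by group,
          (hc'w w hwB).eq, mul_inv_cancel_right,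
          show c⁻¹ * c'⁻¹ * (c * w * c⁻¹) * c' * c = c⁻¹ * (c'⁻¹ * ((c * w * c⁻¹) * c')) * c by
            group,
          ← (hc'w _ hw').eq]
        group
    show c * c' = c' * c
    exact (inv_mul_eq_one.1 hk).symm
  -- their product fixes all transposers
  set h := c * c' with hh
  have hhd : Commute h d := by
    show h * d = d * h
    rw [hh, hc', show d * (c * (d * c * d)) = d * c * d * c * d by group]
    have := hcomm.eq
    rw [hc'] at this
    rw [show c * (d * c * d) * d = c * d * c * (d * d) by group, hdd, mul_one]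
    calc c * d * c = (c * (d * c * d)) * d := by
          rw [show c * (d * c * d) * d = c * d * c * (d * d) by group, hdd, mul_one]
      _ = (d * c * d * c) * d := by rw [this]
  have hhp : ∃ j, orderOf h = p ^ j := by
    obtain ⟨j, hj⟩ := hc
    have hj' : orderOf c' = p ^ j := by
      rw [hc', ← hj]; nth_rw 2 [← hdi]; exact orderOf_conj d c
    obtain ⟨i, -, hi⟩ := (Nat.dvd_prime_pow hp.out).1
      (orderOf_dvd_of_pow_eq_one (x := h) (n := p ^ j) (by
        rw [hh, hcomm.mul_pow]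
        nth_rw 1 [← hj]
        rw [pow_orderOf_eq_one, ← hj', pow_orderOf_eq_one, one_mul]))
    exact ⟨i, hi⟩
  have hhz : Commute (h * z * h⁻¹) z := by
    rw [hh, show c * c' * z * (c * c')⁻¹ = c * (c' * z * c'⁻¹) * c⁻¹ by group,
      (hcz _ ⟨hM.set.conj _ z hz, hc'z⟩).eq, mul_inv_cancel_right]
    exact hc'z
  have hhw : Commute (h * w * h⁻¹) w := by
    rw [hh, show c * c' * w * (c * c')⁻¹ = c * (c' * w * c'⁻¹) * c⁻¹ by group,
      (hc'w w hwB).eq, mul_inv_cancel_right]
    exact hcw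
  have hhT : ∀ t ∈ Transp D z w, h * t * h⁻¹ ∈ Transp D z w := by
    intro t ht
    refine ⟨hM.set.conj h t ht.1, ?_⟩
    have hzi : Commute (h⁻¹ * z * h⁻¹⁻¹) z := by
      have := hhz.map (MulAut.conj h⁻¹).toMonoidHom
      simp only [MulEquiv.coe_toMonoidHom, MulAut.conj_apply] at this
      rw [show h⁻¹ * (h * z * h⁻¹) * h⁻¹⁻¹ = z by group] at this
      exact this.symm
    have h1 := hM.maps (g := t) hz hw (hM.set.conj _ z hz)
      (by rw [hM.set.inv ht.1]; exact ht.2) hzi
    rw [hM.set.inv ht.1] at h1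
    have h2 := hM.maps (g := h) hw hw (hM.set.conj' ht.1 (hM.set.conj _ z hz)) hhw h1
    rwa [show h * t * h⁻¹ * z * (h * t * h⁻¹) = h * (t * (h⁻¹ * z * h⁻¹⁻¹) * t) * h⁻¹ by group]
  have hT : ∀ t ∈ Transp D z w, Commute h t := by
    intro t ht
    by_contra hn
    set S := Subgroup.zpowers h
    set orb := {v : G | ∃ s ∈ S, s * t * s⁻¹ = v}
    have hst : ∀ s ∈ S, ∀ v ∈ Transp D z w, s * v * s⁻¹ ∈ Transp D z w := by
      intro s hs
      obtain ⟨i, rfl⟩ := (isOfFinOrder_of_finite h).mem_powers_iff_mem_zpowers.2 hs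
      induction i with
      | zero => intro v hv; simpa using hv
      | succ i ih =>
        intro v hv
        rw [show h ^ (i + 1) * v * (h ^ (i + 1))⁻¹ = h * (h ^ i * v * (h ^ i)⁻¹) * h⁻¹ by
          rw [pow_succ']; group]
        exact hhT _ (ih (Subgroup.npow_mem_zpowers h i) v hv)
    have hsub : orb ⊆ Transp D z w \ {d} := by
      rintro _ ⟨s, hs, rfl⟩
      refine ⟨hst s hs t ht, fun e => hn ?_⟩
      rw [Set.mem_singleton_iff] at e
      obtain ⟨i, hi⟩ := Subgroup.mem_zpowers_iff.1 hs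
      have hsd : Commute s d := hi ▸ hhd.zpow_left i
      have ht' : t = d := by
        calc t = s⁻¹ * (s * t * s⁻¹) * s := by group
          _ = s⁻¹ * d * s := by rw [e]
          _ = d := by rw [mul_assoc, ← hsd.eq]; group
      exact ht' ▸ hhd
    obtain ⟨j, hj⟩ := hhp
    have hdvd : Nat.card orb ∣ Nat.card S := Dvd.intro _ (card_conj_mul_card_inf S t)
    rw [Nat.card_zpowers, hj] at hdvd
    obtain ⟨i, -, hi⟩ := (Nat.dvd_prime_pow hp.out).1 hdvd
    have hlt : Nat.card orb < p := by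
      have h1 := hM.card_transp hz hw hzw
      rw [hM.card_blk hw, Nat.card_coe_set_eq] at h1
      rw [Nat.card_coe_set_eq]
      have h2 := Set.ncard_le_ncard hsub (Set.toFinite _)
      rw [Set.ncard_sdiff_singleton_of_mem hd] at h2
      have := hp.out.two_le
      omega
    have hi0 : i = 0 := by
      by_contra h'
      have := Nat.le_self_pow h' p
      omega
    rw [hi0, pow_zero] at hi
    haveI := (Nat.card_eq_one_iff_unique.1 hi).1
    have h1 : h * t * h⁻¹ = t := congrArg Subtype.val (Subsingleton.elim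
      (⟨h * t * h⁻¹, h, Subgroup.mem_zpowers h, rfl⟩ : orb) ⟨t, 1, S.one_mem, by group⟩)
    exact hn (show h * t = t * h from mul_inv_eq_iff_eq_mul.1 h1)
  obtain ⟨t, ht, htd⟩ : ∃ t ∈ Transp D z w, t ≠ d := by
    have h1 := hM.card_transp hz hw hzw
    rw [hM.card_blk hw, Nat.card_coe_set_eq] at h1
    exact Set.exists_ne_of_one_lt_ncard (by have := hp.out.one_lt; omega) d
  have hdt := hM.transp_pairwise hz hw hzw hd ht htd.symm
  have h1 : h = 1 := hM.eq_one_of_centralize hd.1 ht.1 hdt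
    (hM.fixes_all hd.1 ⟨hd.1, Commute.refl d⟩ hhp
      (by rw [hhd.eq, mul_inv_cancel_right]) hhd) (hT t ht)
  have hc'eq : c' = c⁻¹ := (inv_eq_of_mul_eq_one_right (hh ▸ h1)).symm
  refine hM.eq_one_of_centralize hz hw hzw hcz ?_
  have := hc'w w hwB
  rw [hc'eq] at this
  simpa using this.inv_left

/-- A `p`-group stabilising two classes has order at most `p`. -/
theorem card_stab_le {z w : G} (hz : z ∈ D) (hw : w ∈ D) (hzw : ¬ Commute z w) (P : Subgroup G)
    (hP : IsPGroup p P)
    (h : ∀ c ∈ P, Commute (c * z * c⁻¹) z ∧ Commute (c * w * c⁻¹) w) : Nat.card P ≤ p := by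
  have hbot : P ⊓ Subgroup.centralizer ({z} : Set G) = ⊥ := by
    rw [eq_bot_iff]
    rintro c ⟨hc, hcz⟩
    rw [Subgroup.mem_bot]
    obtain ⟨j, hj⟩ := IsPGroup.iff_orderOf.1 hP ⟨c, hc⟩
    rw [Subgroup.orderOf_mk] at hj
    have hcz' : Commute c z := Subgroup.mem_centralizer_singleton_iff.1 hcz
    exact hM.eq_one_of_stabilize hz hw hzw ⟨j, hj⟩
      (hM.fixes_all hz ⟨hz, Commute.refl z⟩ ⟨j, hj⟩ (h c hc).1 hcz') (h c hc).2
  have h1 := card_conj_mul_card_inf P z
  rw [hbot, Subgroup.card_bot, mul_one] at h1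
  rw [← h1, ← hM.card_blk hz]
  show Nat.card {t : G | ∃ s ∈ P, s * z * s⁻¹ = t} ≤ Nat.card (Blk D z)
  refine Nat.card_mono (Set.toFinite _) ?_
  rintro _ ⟨s, hs, rfl⟩
  exact ⟨hM.set.conj s z hz, (h s hs).1⟩

theorem transp_prod_fix {z w : G} (hz : z ∈ D) (hw : w ∈ D) {s t : G} (hs : s ∈ Transp D z w)
    (ht : t ∈ Transp D z w) :
    Commute (s * t * z * (s * t)⁻¹) z ∧ Commute (s * t * w * (s * t)⁻¹) w := by
  constructor
  · have := hM.maps (g := s) hw hz (hM.set.conj' ht.1 hz)
      (by rw [hM.set.inv hs.1]; exact (hM.transp_symm hs).symm) ht.2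
    rw [hM.set.inv hs.1] at this
    rw [mul_inv_rev, hM.set.inv hs.1, hM.set.inv ht.1,
      show s * t * z * (t * s) = s * (t * z * t) * s by group]
    exact this
  · have := hM.maps (g := s) hz hw (hM.set.conj' ht.1 hw)
      (by rw [hM.set.inv hs.1]; exact hs.2) (hM.transp_symm ht).symm
    rw [hM.set.inv hs.1] at this
    rw [mul_inv_rev, hM.set.inv hs.1, hM.set.inv ht.1,
      show s * t * w * (t * s) = s * (t * w * t) * s by group]
    exact this

/-- Some product of two members fixes no class. -/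
theorem exists_no_fixed_class : ∃ y ∈ D, ∃ z ∈ D, ¬ Commute y z ∧
    ∀ v ∈ D, ¬ Commute (y * z * v * (y * z)⁻¹) v := by
  classical
  by_contra hcon
  push Not at hcon
  let Q := {q : G × G // q.1 ∈ D ∧ q.2 ∈ D ∧ ¬ Commute q.1 q.2}
  let S := Σ q : Q, Transp D q.1.1 q.1.2 × Transp D q.1.1 q.1.2
  choose fix hfixD hfix using fun q : Q => hcon q.1.1 q.2.1 q.1.2 q.2.2.1 q.2.2.2
  let oth : Q → G := fun q => q.1.1 * fix q * q.1.1
  have hothD : ∀ q, oth q ∈ D := fun q => hM.set.conj' q.2.1 (hfixD q)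
  have hz2 : ∀ q : Q, Commute (q.1.2 * fix q * q.1.2) (oth q) := by
    intro q
    have := (hfix q).map (MulAut.conj q.1.1).toMonoidHom
    simp only [MulEquiv.coe_toMonoidHom, MulAut.conj_apply, hM.set.inv q.2.1, mul_inv_rev,
      hM.set.inv q.2.2.1] at this
    rwa [show q.1.1 * (q.1.1 * q.1.2 * fix q * (q.1.2 * q.1.1)) * q.1.1 =
      (q.1.1 * q.1.1) * (q.1.2 * fix q * q.1.2) * (q.1.1 * q.1.1) by group, hM.set.sq q.2.1,
      one_mul, mul_one] at this
  have hne : ∀ q, ¬ Commute (fix q) (oth q) := by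
    intro q hc
    have h1 := hM.commute_of_maps_self q.2.1 (hfixD q) hc
    have h2 : Commute (fix q) (q.1.2 * fix q * q.1.2) := by
      have := hz2 q
      simp only [oth, (commute_iff_conj_eq (hM.set.sq q.2.1)).1 h1.symm] at this
      exact this.symm
    exact q.2.2.2 (hM.commute_trans (hfixD q) q.2.2.1 q.2.1
      (hM.commute_of_maps_self q.2.2.1 (hfixD q) h2) h1.symm)
  let V := Σ q : Q, Blk D (fix q) × Blk D (oth q)
  let f : V → S := fun v =>
    ⟨⟨(v.2.1.1, v.2.2.1), v.2.1.2.1, v.2.2.2.1, fun hc => hne v.1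
      (hM.commute_trans v.2.2.2.1 (hothD _) (hfixD _) v.2.2.2.2
        (hM.commute_trans v.2.1.2.1 v.2.2.2.1 (hfixD _) hc v.2.1.2.2.symm))⟩,
     ⟨v.1.1.1, v.1.2.1, by
        refine hM.commute_trans (hothD _) v.2.2.2.1 (hM.set.conj' v.1.2.1 v.2.1.2.1)
          v.2.2.2.2.symm ?_
        have := v.2.1.2.2.map (MulAut.conj v.1.1.1).toMonoidHom
        simp only [MulEquiv.coe_toMonoidHom, MulAut.conj_apply, hM.set.inv v.1.2.1] at this
        exact this⟩,
     ⟨v.1.1.2, v.1.2.2.1, by
        refine hM.commute_trans (hothD _) v.2.2.2.1 (hM.set.conj' v.1.2.2.1 v.2.1.2.1)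
          v.2.2.2.2.symm ?_
        have := hM.maps (g := v.1.1.2) (hfixD _) (hothD _) v.2.1.2.1
          (by rw [hM.set.inv v.1.2.2.1]; exact hz2 _) v.2.1.2.2
        rwa [hM.set.inv v.1.2.2.1] at this⟩⟩
  have hinj : Function.Injective f := by
    intro v v' h
    have key : ∀ v : V, ((f v).1.1, ((f v).2.1.1, (f v).2.2.1)) = ((v.2.1.1, v.2.2.1), v.1.1) :=
      fun _ => rfl
    have h' : ((v.2.1.1, v.2.2.1), v.1.1) = ((v'.2.1.1, v'.2.2.1), v'.1.1) := by
      rw [← key v, ← key v', h]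
    obtain ⟨q, a, b⟩ := v
    obtain ⟨q', a', b'⟩ := v'
    simp only [Prod.mk.injEq] at h'
    obtain ⟨⟨h1, h2⟩, h3⟩ := h'
    obtain rfl : q = q' := Subtype.ext h3
    obtain rfl : a = a' := Subtype.ext h1
    obtain rfl : b = b' := Subtype.ext h2
    rfl
  haveI : Fintype Q := Fintype.ofFinite Q
  have hcard : Nat.card V = Nat.card S := by
    rw [Nat.card_sigma, Nat.card_sigma]
    refine Finset.sum_congr rfl fun q _ => ?_
    rw [Nat.card_prod, Nat.card_prod, hM.card_blk (hfixD q), hM.card_blk (hothD q),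
      hM.card_transp q.2.1 q.2.2.1 q.2.2.2, hM.card_blk q.2.2.1]
  obtain ⟨x, hx⟩ : D.Nonempty := let ⟨x, hx, _⟩ := hM.exists_commute; ⟨x, hx⟩
  obtain ⟨y, hy, hxy⟩ := hM.exists_not_commute hx
  obtain ⟨d, hd, -⟩ := hM.transp_nonempty hx hy hxy
  obtain ⟨v, hv⟩ := (hinj.bijective_of_nat_card_le hcard.ge).2
    ⟨⟨(x, y), hx, hy, hxy⟩, ⟨d, hd⟩, ⟨d, hd⟩⟩
  apply v.1.2.2.2
  have h1 : ((f v).2.1.1, (f v).2.2.1) = (d, d) := by rw [hv]
  have h2 : ((f v).2.1.1, (f v).2.2.1) = (v.1.1.1, v.1.1.2) := rfl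
  rw [h2, Prod.mk.injEq] at h1
  rw [h1.1, h1.2]

/-- The number of members in classes fixed by a `p`-element is divisible by `p ^ 2`. -/
theorem sq_dvd_card_fixed {g : G} (hg : g ^ p = 1) :
    p ^ 2 ∣ Nat.card {d : G | d ∈ D ∧ Commute (g * d * g⁻¹) d} := by
  classical
  let st : Setoid D := ⟨fun a b => Commute (a : G) b, ⟨fun a => Commute.refl _, fun h => h.symm,
    fun {a b c} h h' => hM.commute_trans b.2 c.2 a.2 h' h⟩⟩
  let Ω := Quotient st
  letI act : MulAction G Ω :=
    { smul := fun k => Quotient.map (fun d => ⟨k * d * k⁻¹, hM.set.conj k d d.2⟩)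
        fun a b h => h.map (MulAut.conj k).toMonoidHom
      one_smul := fun q => Quotient.inductionOn q fun d => Quotient.sound
        (by show Commute ((1 : G) * d * 1⁻¹) (d : G); simp)
      mul_smul := fun k l q => Quotient.inductionOn q fun d => Quotient.sound
        (by show Commute (k * l * (d : G) * (k * l)⁻¹) (k * (l * d * l⁻¹) * k⁻¹)
            rw [show k * (l * (d : G) * l⁻¹) * k⁻¹ = k * l * d * (k * l)⁻¹ by group]) }
  haveI : Finite Ω := Quotient.finite _
  have hmk : ∀ (k : G) (d : D), k • (⟦d⟧ : Ω) = ⟦⟨k * d * k⁻¹, hM.set.conj k d d.2⟩⟧ :=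
    fun _ _ => rfl
  have hzp : ∀ k : G, k ^ p = 1 → IsPGroup p (Subgroup.zpowers k) := fun k hk => by
    rintro ⟨s, hs⟩
    obtain ⟨i, rfl⟩ := Subgroup.mem_zpowers_iff.1 hs
    refine ⟨1, Subtype.ext ?_⟩
    show (k ^ i) ^ p ^ 1 = 1
    rw [pow_one, ← zpow_natCast, ← zpow_mul, mul_comm, zpow_mul, zpow_natCast, hk, one_zpow]
  have hfixiff : ∀ (k : G) (q : Ω), q ∈ MulAction.fixedPoints (Subgroup.zpowers k) Ω ↔ k • q = q := by
    intro k q
    refine ⟨fun h => h ⟨k, Subgroup.mem_zpowers k⟩, fun h => ?_⟩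
    rintro ⟨s, hs⟩
    exact (Subgroup.zpowers_le.2 (show k ∈ MulAction.stabilizer G q from h)) hs
  obtain ⟨y, hy, z, hz, hyz, hno⟩ := hM.exists_no_fixed_class
  have h0 : p ∣ Nat.card Ω := by
    have h1 := (hzp (y * z) (hM.set.pow_eq_one hy hz hyz)).card_modEq_card_fixedPoints Ω
    have he : MulAction.fixedPoints (Subgroup.zpowers (y * z)) Ω = ∅ := by
      refine Set.eq_empty_of_forall_notMem fun q => ?_
      rw [hfixiff]
      induction q using Quotient.inductionOn with
      | h d =>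
        rw [hmk]
        exact fun h => hno d d.2 (Quotient.exact h)
    rw [he, Nat.card_coe_set_eq, Set.ncard_empty] at h1
    exact Nat.modEq_zero_iff_dvd.1 h1
  have h2 : p ∣ Nat.card (MulAction.fixedPoints (Subgroup.zpowers g) Ω) := by
    have h1 := (hzp g hg).card_modEq_card_fixedPoints Ω
    exact (Nat.ModEq.dvd_iff h1 dvd_rfl).1 h0
  set F := MulAction.fixedPoints (Subgroup.zpowers g) Ω
  haveI : Fintype F := Fintype.ofFinite F
  have e : {d : G | d ∈ D ∧ Commute (g * d * g⁻¹) d} ≃ Σ q : F, {d : D // (⟦d⟧ : Ω) = q} :=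
    { toFun := fun d => ⟨⟨⟦⟨d.1, d.2.1⟩⟧, by rw [hfixiff, hmk]; exact Quotient.sound d.2.2⟩,
        ⟨⟨d.1, d.2.1⟩, rfl⟩⟩
      invFun := fun s => ⟨s.2.1.1, s.2.1.2, by
        have h := s.1.2
        rw [hfixiff, ← s.2.2, hmk] at h
        exact Quotient.exact h⟩
      left_inv := fun _ => rfl
      right_inv := by
        rintro ⟨⟨q, hq⟩, ⟨d, hd⟩⟩
        change (⟦d⟧ : Ω) = q at hd
        subst hd
        rfl }
  rw [Nat.card_congr e, Nat.card_sigma, Finset.sum_congr rfl (g := fun _ => p) fun q _ => ?_,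
    Finset.sum_const, Finset.card_univ, ← Nat.card_eq_fintype_card, smul_eq_mul, pow_two]
  · exact Nat.mul_dvd_mul_right h2 p
  · obtain ⟨d, hd⟩ := Quotient.exists_rep (q : Ω)
    rw [← hd, ← hM.card_blk d.2]
    exact Nat.card_congr
      ⟨fun v => ⟨v.1.1, v.1.2, Quotient.exact v.2⟩,
       fun v => ⟨⟨v.1, v.2.1⟩, Quotient.sound (show Commute v.1 (d : G) from v.2.2)⟩,
       fun _ => rfl, fun _ => rfl⟩

/-- There is no minimal counterexample. -/
theorem absurd_minimal : False := by
  classical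
  have hodd := hM.odd
  obtain ⟨x, hx, -, -, -, -⟩ := hM.exists_commute
  obtain ⟨w, hw, hxw⟩ := hM.exists_not_commute hx
  obtain ⟨s, hs, -⟩ := hM.transp_nonempty hx hw hxw
  obtain ⟨t, ht, hts⟩ : ∃ t ∈ Transp D x w, t ≠ s := by
    have h1 := hM.card_transp hx hw hxw
    rw [hM.card_blk hw, Nat.card_coe_set_eq] at h1
    exact Set.exists_ne_of_one_lt_ncard (by have := hp.out.one_lt; omega) s
  have hst := hM.transp_pairwise hx hw hxw hs ht hts.symm
  set g := s * t with hg
  have hgo : orderOf g = p := hM.set.orderOf_mul hs.1 ht.1 hst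
  have hgp : g ^ p = 1 := hgo ▸ pow_orderOf_eq_one g
  set I := {d ∈ D | d * g * d = g⁻¹} with hI
  set Φ := {d : G | d ∈ D ∧ Commute (g * d * g⁻¹) d} with hΦ
  have hgfix := hM.transp_prod_fix hx hw hs ht
  have hxΦ : x ∈ Φ := ⟨hx, hgfix.1⟩
  have hginv : ∀ d ∈ Φ, Commute (g⁻¹ * d * g⁻¹⁻¹) d := fun d hd => by
    have := hd.2.map (MulAut.conj g⁻¹).toMonoidHom
    simp only [MulEquiv.coe_toMonoidHom, MulAut.conj_apply] at this
    rw [show g⁻¹ * (g * d * g⁻¹) * g⁻¹⁻¹ = d by group] at this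
    exact this.symm
  -- no member inverting `g` is centralised by `g`
  have hIcent : ∀ d ∈ I, ¬ Commute g d := by
    intro d hd hc
    have h1 := hd.2
    rw [mul_assoc, hc.eq, ← mul_assoc, hM.set.sq hd.1, one_mul] at h1
    have h2 : g ^ 2 = 1 := by rw [pow_two]; nth_rw 1 [h1]; exact inv_mul_cancel g
    have h3 := eq_one_of_pow_two_of_pow hodd h2 hgp
    rw [h3, orderOf_one] at hgo
    exact hp.out.one_lt.ne hgo
  have hsI : s ∈ I := ⟨hs.1, by
    rw [hg, mul_inv_rev, hM.set.inv hs.1, hM.set.inv ht.1, ← mul_assoc, hM.set.sq hs.1, one_mul]⟩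
  have hIinv : ∀ d ∈ I, d * g⁻¹ * d = g := fun d hd => by
    rw [← hd.2, show d * (d * g * d) * d = (d * d) * g * (d * d) by group, hM.set.sq hd.1, one_mul,
      mul_one]
  have hgpow : ∃ j, orderOf g = p ^ j := ⟨1, by rw [hgo, pow_one]⟩
  -- members of `I` do not commute
  have hIpair : ∀ a ∈ I, ∀ b ∈ I, a ≠ b → ¬ Commute a b := by
    intro a ha b hb hab hc
    have hu := hM.mul_mem ha.1 hb.1 hab hc
    have hgu : Commute g (a * b) := by
      show g * (a * b) = a * b * g
      have h1 : a * b * g * (b * a) = g := by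
        rw [show a * b * g * (b * a) = a * (b * g * b) * a by group, hb.2, hIinv a ha]
      calc g * (a * b) = a * b * g * (b * a) * (a * b) := by rw [h1]
        _ = a * b * g * (b * (a * a) * b) := by group
        _ = a * b * g := by rw [hM.set.sq ha.1, mul_one, hM.set.sq hb.1, mul_one]
    refine hIcent a ha (hM.fixes_all hu ⟨hu, Commute.refl _⟩ hgpow ?_ hgu a
      ⟨ha.1, (Commute.refl a).mul_right hc⟩)
    rw [hgu.eq, mul_inv_cancel_right]
  obtain ⟨-, -, -, k, hk⟩ := pairwise_structure (p := p) hodd I ⟨s, hsI⟩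
    (fun d hd => hM.set.invol d hd.1)
    (fun a ha b hb => ⟨hM.set.conj' ha.1 hb.1, by
      rw [show a * b * a * g * (a * b * a) = a * (b * (a * g * a) * b) * a by group, ha.2,
        hIinv b hb, ha.2]⟩)
    (fun a ha b hb => ⟨1, by
      rw [pow_one]
      by_cases h : a = b
      · rw [h, hM.set.sq hb.1, one_pow]
      · exact hM.set.pow_eq_one ha.1 hb.1 (hIpair a ha b hb h)⟩)
  -- members of `I` leave no fixed class in place
  have hImove : ∀ d ∈ I, ¬ Commute x d := by
    intro d hd hc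
    apply hIcent d hd
    have hgd : g * d * g⁻¹ ∈ D := hM.set.conj g d hd.1
    have h1 : Commute (g * d * g⁻¹) x := hM.maps hx hx hd.1 hxΦ.2 hc.symm
    have h2 : Commute (g * d * g⁻¹) d := hM.commute_trans hx hd.1 hgd hc h1
    have h3 : d * (g * d * g⁻¹) * d = g * d * g⁻¹ := (commute_iff_conj_eq (hM.set.sq hd.1)).1 h2.symm
    have h4 : d * (g * d * g⁻¹) * d = g⁻¹ * d * g := by
      calc d * (g * d * g⁻¹) * d = (d * g * d) * (g⁻¹ * d) := by group
        _ = (d * g * d) * ((d * d) * g⁻¹ * d) := by rw [hM.set.sq hd.1, one_mul]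
        _ = (d * g * d) * d * (d * g⁻¹ * d) := by group
        _ = g⁻¹ * d * g := by rw [hd.2, hIinv d hd]
    have h5 : Commute (g ^ 2) d := by
      show g ^ 2 * d = d * g ^ 2
      rw [h3] at h4
      calc g ^ 2 * d = g * (g * d * g⁻¹) * g := by rw [pow_two]; group
        _ = g * (g⁻¹ * d * g) * g := by rw [h4]
        _ = d * g ^ 2 := by rw [pow_two]; group
    obtain ⟨m, hm⟩ := hodd
    have e : g = (g ^ 2) ^ (m + 1) := by
      rw [← pow_mul, show 2 * (m + 1) = p + 1 by omega, pow_succ, hgp, one_mul]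
    rw [e]
    exact h5.pow_left _
  have hcard : Nat.card I = Nat.card {δ : G | δ ∈ Φ ∧ ¬ Commute x δ} := by
    have hmem : ∀ d ∈ I, d * x * d ∈ Φ ∧ ¬ Commute x (d * x * d) := by
      intro d hd
      refine ⟨⟨hM.set.conj' hd.1 hx, ?_⟩, hM.set.not_commute_conj hodd hx hd.1 (hImove d hd)⟩
      have := (hginv x hxΦ).map (MulAut.conj d).toMonoidHom
      simp only [MulEquiv.coe_toMonoidHom, MulAut.conj_apply, hM.set.inv hd.1] at this
      rwa [show g * (d * x * d) * g⁻¹ = d * (g⁻¹ * x * g⁻¹⁻¹) * d by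
        calc g * (d * x * d) * g⁻¹ = (d * d) * (g * d * x * d * g⁻¹) * (d * d) := by
              rw [hM.set.sq hd.1]; group
          _ = d * ((d * g * d) * x * (d * g⁻¹ * d)) * d := by group
          _ = d * (g⁻¹ * x * g⁻¹⁻¹) * d := by rw [hd.2, hIinv d hd, inv_inv]]
    refine Nat.card_congr (Equiv.ofBijective
      (fun d => (⟨(d : G) * x * d, hmem d d.2⟩ : {δ : G | δ ∈ Φ ∧ ¬ Commute x δ})) ⟨?_, ?_⟩)
    · intro a b hab
      exact Subtype.ext (hM.set.midpoint_unique hodd hx a.2.1 b.2.1 (hImove a a.2)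
        (congrArg Subtype.val hab))
    · rintro ⟨δ, ⟨hδ, hδg⟩, hxδ⟩
      obtain ⟨d, hd, hde⟩ := hM.transp_nonempty hx hδ hxδ
      suffices hdI : d ∈ I from ⟨⟨d, hdI⟩, Subtype.ext hde⟩
      refine ⟨hd.1, ?_⟩
      obtain ⟨P, hP, hPm, -⟩ := pairwise_structure (p := p) hodd (Transp D x δ) ⟨d, hd⟩
        (fun v hv => hM.set.invol v hv.1) (hM.transp_conj hx hδ)
        (fun a ha b hb => ⟨1, by rw [pow_one]; exact hM.transp_pow hx hδ hxδ ha hb⟩)
      set P2 := Subgroup.closure {c : G | ∃ a ∈ Transp D x δ, ∃ b ∈ Transp D x δ, a * b = c}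
        with hP2
      have hP2p : IsPGroup p P2 := hP.to_le ((Subgroup.closure_le _).2 (by
        rintro _ ⟨a, ha, b, hb, rfl⟩; exact hPm a ha b hb))
      let S : Subgroup G :=
        { carrier := {c | Commute (c * x * c⁻¹) x ∧ Commute (c * δ * c⁻¹) δ}
          one_mem' := by simp
          mul_mem' := fun {a b} ha hb => by
            constructor
            · rw [show a * b * x * (a * b)⁻¹ = a * (b * x * b⁻¹) * a⁻¹ by group]
              exact hM.maps hx hx (hM.set.conj b x hx) ha.1 hb.1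
            · rw [show a * b * δ * (a * b)⁻¹ = a * (b * δ * b⁻¹) * a⁻¹ by group]
              exact hM.maps hδ hδ (hM.set.conj b δ hδ) ha.2 hb.2
          inv_mem' := fun {a} ha => by
            constructor
            · have := ha.1.map (MulAut.conj a⁻¹).toMonoidHom
              simp only [MulEquiv.coe_toMonoidHom, MulAut.conj_apply] at this
              rw [show a⁻¹ * (a * x * a⁻¹) * a⁻¹⁻¹ = x by group] at this
              exact this.symm
            · have := ha.2.map (MulAut.conj a⁻¹).toMonoidHom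
              simp only [MulEquiv.coe_toMonoidHom, MulAut.conj_apply] at this
              rw [show a⁻¹ * (a * δ * a⁻¹) * a⁻¹⁻¹ = δ by group] at this
              exact this.symm }
      have hP2S : P2 ≤ S := (Subgroup.closure_le _).2 (by
        rintro _ ⟨a, ha, b, hb, rfl⟩; exact hM.transp_prod_fix hx hδ ha hb)
      have hgS : g ∈ S := ⟨hxΦ.2, hδg⟩
      have hTst : ∀ c ∈ S, ∀ v ∈ Transp D x δ, c * v * c⁻¹ ∈ Transp D x δ := by
        intro c hc v hv
        refine ⟨hM.set.conj c v hv.1, ?_⟩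
        have h1 := hM.maps (g := v) hx hδ (hM.set.conj c⁻¹ x hx)
          (by rw [hM.set.inv hv.1]; exact hv.2) (S.inv_mem hc).1
        rw [hM.set.inv hv.1] at h1
        have h2 := hM.maps (g := c) hδ hδ (hM.set.conj' hv.1 (hM.set.conj c⁻¹ x hx)) hc.2 h1
        rwa [show c * v * c⁻¹ * x * (c * v * c⁻¹) = c * (v * (c⁻¹ * x * c⁻¹⁻¹) * v) * c⁻¹ by group]
      have hnorm : Subgroup.zpowers g ≤ Subgroup.normalizer (P2 : Set G) := by
        intro c hc
        have hcS : c ∈ S := Subgroup.zpowers_le.2 hgS hc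
        have hle : ∀ e ∈ S, P2.map (MulAut.conj e).toMonoidHom ≤ P2 := by
          intro e he
          rw [hP2, MonoidHom.map_closure]
          refine Subgroup.closure_mono ?_
          rintro _ ⟨_, ⟨a, ha, b, hb, rfl⟩, rfl⟩
          exact ⟨_, hTst e he a ha, _, hTst e he b hb, by simp⟩
        rw [Subgroup.mem_normalizer_iff]
        intro n
        refine ⟨fun hn => hle c hcS ⟨n, hn, rfl⟩, fun hn => ?_⟩
        have := hle c⁻¹ (S.inv_mem hcS) ⟨_, hn, rfl⟩
        simpa [mul_assoc] using this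
      have hgpg : IsPGroup p (Subgroup.zpowers g) := by
        refine IsPGroup.of_card (n := 1) ?_
        rw [Nat.card_zpowers, hgo, pow_one]
      have hP0p : IsPGroup p ↥(Subgroup.zpowers g ⊔ P2) := hgpg.to_sup_of_normal_right' hP2p hnorm
      have hP0card : Nat.card ↥(Subgroup.zpowers g ⊔ P2) ≤ p :=
        hM.card_stab_le hx hδ hxδ _ hP0p fun c hc =>
          (sup_le (Subgroup.zpowers_le.2 hgS) hP2S) hc
      have heq : Subgroup.zpowers g = Subgroup.zpowers g ⊔ P2 :=
        Subgroup.eq_of_le_of_card_ge le_sup_left (by rw [Nat.card_zpowers, hgo]; exact hP0card)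
      obtain ⟨d', hd', hdd'⟩ : ∃ d' ∈ Transp D x δ, d' ≠ d := by
        have h1 := hM.card_transp hx hδ hxδ
        rw [hM.card_blk hδ, Nat.card_coe_set_eq] at h1
        exact Set.exists_ne_of_one_lt_ncard (by have := hp.out.one_lt; omega) d
      have hmem' : d * d' ∈ Subgroup.zpowers g := by
        rw [heq]
        exact Subgroup.mem_sup_right (Subgroup.subset_closure ⟨d, hd, d', hd', rfl⟩)
      have hgmem : g ∈ Subgroup.zpowers (d * d') := by
        have e : Subgroup.zpowers (d * d') = Subgroup.zpowers g :=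
          Subgroup.eq_of_le_of_card_ge (Subgroup.zpowers_le.2 hmem')
            (by rw [Nat.card_zpowers, Nat.card_zpowers, hgo,
              hM.set.orderOf_mul hd.1 hd'.1 (hM.transp_pairwise hx hδ hxδ hd hd' hdd'.symm)])
        rw [e]
        exact Subgroup.mem_zpowers g
      obtain ⟨i, hi⟩ := Subgroup.mem_zpowers_iff.1 hgmem
      have := conj_zpow_of_inverts (conj_prod (hM.set.sq hd.1) (hM.set.sq hd'.1)) i
      rw [hM.set.inv hd.1, zpow_neg, hi] at this
      exact this
  -- counting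
  have hsub : Blk D x ⊆ Φ := fun v hv =>
    ⟨hv.1, hM.commute_trans hx hv.1 (hM.set.conj g v hv.1) hv.2.symm
      (hM.maps hx hx hv.1 hxΦ.2 hv.2)⟩
  have hsplit : Nat.card Φ = Nat.card I + p := by
    rw [hcard, ← hM.card_blk hx, Nat.card_coe_set_eq, Nat.card_coe_set_eq, Nat.card_coe_set_eq]
    rw [← Set.ncard_sdiff_add_ncard_of_subset hsub (Set.toFinite _)]
    congr 1
    refine congrArg Set.ncard ?_
    ext v
    exact ⟨fun h => ⟨h.1, fun hc => h.2 ⟨h.1.1, hc.symm⟩⟩, fun h => ⟨h.1, fun hv => h.2 hv.2.symm⟩⟩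
  have hdvd := hM.sq_dvd_card_fixed hgp
  change p ^ 2 ∣ Nat.card Φ at hdvd
  rw [hsplit, hk] at hdvd
  have hp1 := hp.out.two_le
  rcases Nat.lt_or_ge k 2 with hlt | hge
  · rcases (by omega : k = 0 ∨ k = 1) with rfl | rfl
    · have h1 : p ∣ p ^ 0 + p := dvd_trans (dvd_pow_self p two_ne_zero) hdvd
      rw [Nat.dvd_add_self_right, pow_zero] at h1
      exact hp.out.one_lt.ne' (Nat.dvd_one.1 h1)
    · rw [pow_one, ← two_mul, pow_two] at hdvd
      have := Nat.le_of_dvd two_pos (Nat.dvd_of_mul_dvd_mul_right (by omega) hdvd)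
      have := hM.five
      omega
  · have h1 : p ^ 2 ∣ p := (Nat.dvd_add_right (Nat.pow_dvd_pow p hge)).1 hdvd
    have := Nat.le_of_dvd (by omega) h1
    nlinarith

end Minimal

/-- **{2,p}-transpositions generate a solvable group** for a prime `p ≥ 5`. -/
theorem isSolvable_of_isTwoPSet {p : ℕ} [hp : Fact p.Prime] (hp5 : 5 ≤ p) {D : Set G}
    (hD : IsTwoPSet p D) : Group.IsSolvable ↥(Subgroup.closure D) := by
  obtain ⟨n, hn⟩ : ∃ n, Nat.card G = n := ⟨_, rfl⟩
  induction n using Nat.strong_induction_on generalizing G with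
  | _ n ih =>
  by_contra hns
  -- closures inside proper subgroups
  have hsub : ∀ H : Subgroup G, H ≠ ⊤ → Group.IsSolvable ↥(Subgroup.closure (D ∩ H)) := by
    intro H hH
    have hlt : Nat.card H < n := by
      rw [← hn]
      exact lt_of_le_of_ne (Subgroup.card_le_card_group H) fun h => hH (Subgroup.eq_top_of_card_eq H h)
    haveI := ih _ hlt (hD.comap_subgroup H) rfl
    have hmap : (Subgroup.closure {k : H | (k : G) ∈ D}).map H.subtype
        = Subgroup.closure (D ∩ H) := by
      rw [MonoidHom.map_closure]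
      congr 1
      ext v
      exact ⟨fun ⟨k, hk, hkv⟩ => hkv ▸ ⟨hk, k.2⟩, fun hv => ⟨⟨v, hv.2⟩, hv.1, rfl⟩⟩
    rw [← hmap]
    exact Group.isSolvable_of_surjective (f := ((Subgroup.closure {k : H | (k : G) ∈ D}).equivMapOfInjective
      H.subtype H.subtype_injective).toMonoidHom) (MulEquiv.surjective _)
  have htop : Subgroup.closure D = ⊤ := by
    by_contra hne
    apply hns
    have := hsub _ hne
    rwa [Set.inter_eq_left.2 Subgroup.subset_closure] at this
  have hnsG : ¬ Group.IsSolvable G := fun h => hns inferInstance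
  -- no normal solvable subgroup
  have hrad : ∀ N : Subgroup G, N.Normal → Group.IsSolvable N → N = ⊥ := by
    intro N hN hNs
    by_contra hne
    apply hnsG
    let π := QuotientGroup.mk' N
    have hπ : Function.Surjective π := QuotientGroup.mk'_surjective N
    have hlt : Nat.card (G ⧸ N) < n := by
      rw [← hn, N.card_eq_card_quotient_mul_card_subgroup]
      exact lt_mul_of_one_lt_right Nat.card_pos (by rw [Subgroup.one_lt_card_iff_ne_bot]; exact hne)
    have h1 := ih _ hlt (hD.map π hπ) rfl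
    have hgen : Subgroup.closure (π '' D \ {1}) = ⊤ := by
      rw [Subgroup.closure_sdiff_one, ← MonoidHom.map_closure, htop,
        Subgroup.map_top_of_surjective π hπ]
    rw [hgen] at h1
    haveI : Group.IsSolvable (G ⧸ N) :=
      Group.isSolvable_of_surjective (f := (Subgroup.topEquiv (G := G ⧸ N)).toMonoidHom)
        (MulEquiv.surjective _)
    exact (Group.isSolvable_iff_subgroup_quotient N).2 ⟨hNs, inferInstance⟩
  obtain ⟨x, hx⟩ : D.Nonempty := by
    by_contra h
    rw [Set.not_nonempty_iff_eq_empty] at h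
    rw [h, Subgroup.closure_empty] at htop
    exact hnsG (Group.isSolvable_of_top_eq_bot G htop.symm)
  -- a single class already generates
  set D₀ := {d : G | ∃ g : G, g * x * g⁻¹ = d} with hD₀
  have hD₀sub : D₀ ⊆ D := by rintro _ ⟨g, rfl⟩; exact hD.conj g x hx
  have hD₀set : IsTwoPSet p D₀ :=
    { invol := fun d hd => hD.invol d (hD₀sub hd)
      conj := by rintro g _ ⟨k, rfl⟩; exact ⟨g * k, by group⟩
      dich := fun a ha b hb => hD.dich a (hD₀sub ha) b (hD₀sub hb) }
  have hgen₀ : Subgroup.closure D₀ = ⊤ := by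
    by_contra hne
    haveI hnorm : (Subgroup.closure D₀).Normal := by
      refine ⟨fun v hv g => ?_⟩
      have hle : (Subgroup.closure D₀).map (MulAut.conj g).toMonoidHom ≤ Subgroup.closure D₀ := by
        rw [MonoidHom.map_closure]
        refine Subgroup.closure_mono ?_
        rintro _ ⟨d, hd, rfl⟩
        exact hD₀set.conj g d hd
      exact hle ⟨v, hv, rfl⟩
    have hs := hsub _ hne
    have hle : Subgroup.closure D₀ ≤ Subgroup.closure (D ∩ (Subgroup.closure D₀ : Set G)) :=
      Subgroup.closure_mono fun d hd => ⟨hD₀sub hd, Subgroup.subset_closure hd⟩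
    haveI : Group.IsSolvable ↥(Subgroup.closure D₀) :=
      Group.isSolvable_of_isSolvable_injective (f := Subgroup.inclusion hle)
        (Subgroup.inclusion_injective hle)
    have := hrad _ hnorm inferInstance
    have hx0 : x ∈ Subgroup.closure D₀ := Subgroup.subset_closure ⟨1, by group⟩
    rw [this, Subgroup.mem_bot] at hx0
    exact hD.ne_one hx hx0
  refine Minimal.absurd_minimal (p := p) (D := D₀)
    { set := hD₀set, five := hp5, gen := hgen₀, rad := hrad, nonsolv := hnsG
      single := ?_, solv := fun H hH => ?_ }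
  · rintro _ ⟨g, rfl⟩ _ ⟨k, rfl⟩
    exact isConj_iff.2 ⟨k * g⁻¹, by group⟩
  · have := hsub H hH
    have hle : Subgroup.closure (D₀ ∩ H) ≤ Subgroup.closure (D ∩ (H : Set G)) :=
      Subgroup.closure_mono (Set.inter_subset_inter_left _ hD₀sub)
    exact Group.isSolvable_of_isSolvable_injective (f := Subgroup.inclusion hle)
      (Subgroup.inclusion_injective hle)

end CfsgLib.TwoPTransp
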