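import Cfsg.Prelude.Def_SporadicB
import Cfsg.Agent.Lib.TwoPTransp.Blocks
import Cfsg.Agent.Lib.Invol.BaerSuzuki

/-!
# A class of involutions of rank three

The products `x * d` take at most two orders, closed under divisors `> 1`; with trivial solvable
radical this leaves orders `2, 3`.  The case of odd orders takes the odd order theorem as a
hypothesis.
-/

set_option autoImplicit false

namespace CfsgLib.TwoPTransp

open CfsgLib.Invol

universe u

variable {G : Type u} [Group G] [Finite G] {D : Set G}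

/-- With one nontrivial rotation, every power gives a member of the class. -/
theorem mul_zpow_mem (hinv : ∀ d ∈ D, orderOf d = 2) (hD : ∀ g : G, ∀ d ∈ D, g * d * g⁻¹ ∈ D)
    {x d : G} (hx : x ∈ D) (hd : d ∈ D) (j : ℤ) : x * (x * d) ^ j ∈ D := by
  have hxx := mul_self_eq_one (hinv x hx)
  have hdd := mul_self_eq_one (hinv d hd)
  obtain ⟨i, rfl | rfl⟩ := Int.even_or_odd' j
  · have := hD ((x * d) ^ (-i)) x hx
    rwa [conj_by_zpow hxx hdd, show -2 * -i = 2 * i by ring] at this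
  · have := hD ((x * d) ^ (-i)) d hd
    have e : (x * d) ^ (-i) * d * ((x * d) ^ (-i))⁻¹ = x * (x * d) ^ (2 * i + 1) := by
      calc _ = (x * d) ^ (-i) * (x * (x * d)) * ((x * d) ^ (-i))⁻¹ := by
            rw [← mul_assoc x, hxx, one_mul]
        _ = (x * d) ^ (-i) * x * ((x * d) ^ (-i))⁻¹ * (x * d) := by
            generalize x * d = r
            group
        _ = _ := by
            rw [conj_by_zpow hxx hdd, show -2 * -i = 2 * i by ring, mul_assoc, ← zpow_add_one]
    rwa [e] at this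

theorem isThreeTranspositionSet_of_orders
    (hFT : ∀ K : Subgroup G, Odd (Nat.card K) → Group.IsSolvable ↥K)
    (hsol : ∀ N : Subgroup G, N.Normal → Group.IsSolvable ↥N → N = ⊥)
    (hinv : ∀ d ∈ D, orderOf d = 2) (hD : ∀ g : G, ∀ d ∈ D, g * d * g⁻¹ ∈ D)
    (hgen : Subgroup.closure D = ⊤) {x₀ y₀ : G} (hx₀ : x₀ ∈ D) (hy₀ : y₀ ∈ D) (hne : y₀ ≠ x₀)
    (V : Finset ℕ) (hV2 : V.card ≤ 2)
    (hV : ∀ x ∈ D, ∀ d ∈ D, x ≠ d → orderOf (x * d) ∈ V)
    (hatt : ∀ v ∈ V, ∃ x ∈ D, ∃ d ∈ D, x ≠ d ∧ orderOf (x * d) = v) :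
    Cfsg.IsThreeTranspositionSet D := by
  classical
  have hcl : ∀ N : Subgroup G, N.Normal → Group.IsSolvable ↥N → (∀ d ∈ D, d ∈ N) → False := by
    intro N hN hs hd
    have h1 := hd x₀ hx₀
    rw [hsol N hN hs, Subgroup.mem_bot] at h1
    exact ne_one_of_invol (hinv x₀ hx₀) h1
  have hgt : ∀ v ∈ V, 1 < v := by
    intro v hv
    obtain ⟨x, hx, d, hd, hxd, rfl⟩ := hatt v hv
    refine lt_of_le_of_ne (orderOf_pos (x * d)) fun e => hxd ?_
    rw [eq_comm, orderOf_eq_one_iff] at e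
    rw [← inv_eq_of_mul_eq_one_right e, inv_eq_self (hinv x hx)]
  have hdiv : ∀ v ∈ V, ∀ k : ℕ, 1 < k → k ∣ v → k ∈ V := by
    intro v hv k hk hkv
    obtain ⟨x, hx, d, hd, -, rfl⟩ := hatt v hv
    have hN0 : 0 < orderOf (x * d) := orderOf_pos _
    have hk' : orderOf ((x * d) ^ (orderOf (x * d) / k)) = k := by
      rw [orderOf_pow_orderOf_div hN0.ne' hkv]
    have h1 : (x * d) ^ (orderOf (x * d) / k) ≠ 1 := fun e => by
      rw [e, orderOf_one] at hk'; omega
    have hd' := mul_zpow_mem hinv hD hx hd ((orderOf (x * d) / k : ℕ) : ℤ)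
    rw [zpow_natCast] at hd'
    have hne' : x ≠ x * (x * d) ^ (orderOf (x * d) / k) := fun e => h1 (left_eq_mul.1 e)
    have := hV x hx _ hd' hne'
    rwa [← mul_assoc, mul_self_eq_one (hinv x hx), one_mul, hk'] at this
  have heq_of : ∀ x ∈ D, ∀ d ∈ D, x * d = 1 → x = d := fun x hx d _ e => by
    rw [← inv_eq_of_mul_eq_one_right e, inv_eq_self (hinv x hx)]
  by_cases hodd : ∀ v ∈ V, Odd v
  · -- all products have odd order
    exfalso
    have hiso : Cfsg.IsIsolatedInvolution x₀ := by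
      refine ⟨hinv x₀ hx₀, fun g hg => ?_⟩
      by_contra hne'
      have ho := hodd _ (hV x₀ hx₀ _ (hD g x₀ hx₀) (Ne.symm hne'))
      have h2 : (x₀ * (g * x₀ * g⁻¹)) ^ 2 = 1 := by
        rw [hg.mul_pow, pow_two, pow_two, mul_self_eq_one (hinv _ hx₀),
          mul_self_eq_one (hinv _ (hD g x₀ hx₀)), mul_one]
      have h1 := eq_one_of_pow_two_of_pow ho h2 (pow_orderOf_eq_one _)
      exact hne' (heq_of x₀ hx₀ _ (hD g x₀ hx₀) h1).symm
    set O := Cfsg.pPrimeCore 2 G
    have hO : O = ⊥ := hsol O (Solvable.pPrimeCore_normal 2 G)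
      (hFT O (Nat.coprime_two_right.1 (Solvable.pPrimeCore_card_coprime 2 G)))
    have hcent : ∀ g : G, g * x₀ = x₀ * g := fun g => by
      have h1 := zStar hiso g
      rw [show Cfsg.pPrimeCore 2 G = ⊥ from hO, Subgroup.mem_bot] at h1
      calc g * x₀ = x₀ * g * x₀⁻¹ * g⁻¹ * (g * x₀) := by rw [h1, one_mul]
        _ = x₀ * g := by group
    refine hcl (Subgroup.zpowers x₀) ⟨fun a ha g => ?_⟩
      (Group.isSolvable_of_comm fun a b => Std.Commutative.comm a b) fun d hd => ?_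
    · obtain ⟨i, rfl⟩ := Subgroup.mem_zpowers_iff.1 ha
      rw [((show Commute g x₀ from hcent g).zpow_right i).eq, mul_inv_cancel_right]
      exact Subgroup.zpow_mem _ (Subgroup.mem_zpowers x₀) i
    · by_contra hdx
      have hne' : x₀ ≠ d := fun e => hdx (e ▸ Subgroup.mem_zpowers x₀)
      have ho := hodd _ (hV x₀ hx₀ d hd hne')
      have hc : Commute x₀ d := (hcent d).symm
      have h2 : (x₀ * d) ^ 2 = 1 := by
        rw [hc.mul_pow, pow_two, pow_two, mul_self_eq_one (hinv _ hx₀),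
          mul_self_eq_one (hinv _ hd), mul_one]
      exact hne' (heq_of x₀ hx₀ d hd (eq_one_of_pow_two_of_pow ho h2 (pow_orderOf_eq_one _)))
  push Not at hodd
  obtain ⟨v, hv, hve⟩ := hodd
  have h2V : 2 ∈ V := hdiv v hv 2 one_lt_two (even_iff_two_dvd.1 (Nat.not_odd_iff_even.1 hve))
  by_cases hq : ∃ w ∈ V, ∃ q : ℕ, q.Prime ∧ q ≠ 2 ∧ q ∣ w
  · obtain ⟨w, hw, q, hqp, hq2, hqw⟩ := hq
    have hqV : q ∈ V := hdiv w hw q hqp.one_lt hqw
    have hVeq : ({2, q} : Finset ℕ) = V := Finset.eq_of_subset_of_card_le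
      (by simp [Finset.insert_subset_iff, h2V, hqV]) (by rw [Finset.card_pair hq2.symm]; omega)
    have hpow : ∀ x ∈ D, ∀ d ∈ D, (x * d) ^ 2 = 1 ∨ (x * d) ^ q = 1 := by
      intro x hx d hd
      by_cases e : x = d
      · subst e; left; rw [mul_self_eq_one (hinv x hx), one_pow]
      · have h1 := hV x hx d hd e
        rw [← hVeq, Finset.mem_insert, Finset.mem_singleton] at h1
        rcases h1 with h1 | h1
        · left; rw [← h1]; exact pow_orderOf_eq_one _
        · right; rw [← h1]; exact pow_orderOf_eq_one _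
    by_cases hq3 : q = 3
    · exact ⟨hinv, fun d hd e he => hq3 ▸ hpow d hd e he⟩
    exfalso
    haveI := Fact.mk hqp
    have hq5 : 5 ≤ q := by
      have := hqp.two_le
      rcases Nat.lt_or_ge q 5 with hlt | hge
      · interval_cases q <;> norm_num at *
      · exact hge
    have hset : IsTwoPSet q D := ⟨hinv, hD, fun x hx d hd => by
      rcases hpow x hx d hd with h1 | h1
      · left
        show x * d = d * x
        rw [pow_two, mul_eq_one_iff_eq_inv, mul_inv_rev, inv_eq_self (hinv x hx),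
          inv_eq_self (hinv d hd)] at h1
        exact h1
      · exact Or.inr h1⟩
    have hs := isSolvable_of_isTwoPSet hq5 hset
    rw [hgen] at hs
    exact hcl ⊤ inferInstance hs fun d _ => Subgroup.mem_top d
  · exfalso
    push Not at hq
    have hp2 : IsPGroup 2 (Subgroup.closure D) := by
      haveI := Fact.mk Nat.prime_two
      refine isPGroup_closure_of_pairs D hD fun a ha b hb => ?_
      rintro ⟨g, hg⟩
      have hord : ∃ j, orderOf (a * b) = 2 ^ j := by
        by_cases e : a = b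
        · exact ⟨0, by rw [e, mul_self_eq_one (hinv b hb), orderOf_one]; rfl⟩
        · have h1 := hV a ha b hb e
          exact ⟨_, Nat.eq_prime_pow_of_unique_prime_dvd (orderOf_pos _).ne'
            fun {d} hdp hdd => by_contra fun hd2 => hq _ h1 d hdp hd2 hdd⟩
      obtain ⟨j, hj⟩ := hord
      obtain ⟨k, hk | hk⟩ := (mem_closure_pair_iff (mul_self_eq_one (hinv a ha))
        (mul_self_eq_one (hinv b hb))).1 hg
      · refine ⟨j, Subtype.ext ?_⟩
        simp only [SubgroupClass.coe_pow, OneMemClass.coe_one, hk]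
        rw [← zpow_natCast ((a * b) ^ k), ← zpow_mul, mul_comm, zpow_mul, zpow_natCast, ← hj,
          pow_orderOf_eq_one, one_zpow]
      · refine ⟨1, Subtype.ext ?_⟩
        simp only [SubgroupClass.coe_pow, OneMemClass.coe_one, hk, pow_one]
        exact mul_self_eq_one (hinv _ (mul_zpow_mem hinv hD ha hb k)) ▸ (pow_two _)
    haveI := Fact.mk Nat.prime_two
    have hnil := hp2.isNilpotent
    rw [hgen] at hnil
    exact hcl ⊤ inferInstance inferInstance fun d _ => Subgroup.mem_top d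

/-- A generating class of involutions of rank three, given solvability of the subgroups of odd
order. -/
theorem isThreeTranspositionClass_of_rank_three
    (hFT : ∀ K : Subgroup G, Odd (Nat.card K) → Group.IsSolvable ↥K)
    (hsol : ∀ N : Subgroup G, N.Normal → Group.IsSolvable ↥N → N = ⊥)
    (hinv : ∀ d ∈ D, orderOf d = 2) (hconj : ∃ d ∈ D, D = conjugatesOf d)
    (hgen : Subgroup.closure D = ⊤)
    (hrank : ∀ x ∈ D, ∃ y ∈ D, ∃ z ∈ D,
      {w : G | ∃ g : G, Commute g x ∧ g * y * g⁻¹ = w} ≠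
        {w : G | ∃ g : G, Commute g x ∧ g * x * g⁻¹ = w} ∧
      {w : G | ∃ g : G, Commute g x ∧ g * z * g⁻¹ = w} ≠
        {w : G | ∃ g : G, Commute g x ∧ g * x * g⁻¹ = w} ∧
      {w : G | ∃ g : G, Commute g x ∧ g * y * g⁻¹ = w} ≠
        {w : G | ∃ g : G, Commute g x ∧ g * z * g⁻¹ = w} ∧
      D = {w : G | ∃ g : G, Commute g x ∧ g * x * g⁻¹ = w} ∪
          {w : G | ∃ g : G, Commute g x ∧ g * y * g⁻¹ = w} ∪
          {w : G | ∃ g : G, Commute g x ∧ g * z * g⁻¹ = w}) :
    Cfsg.IsThreeTranspositionClass D := by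
  obtain ⟨x₀, hx₀, hDeq⟩ := id hconj
  have hD : ∀ g : G, ∀ d ∈ D, g * d * g⁻¹ ∈ D := fun g d hd => by
    rw [hDeq] at hd ⊢
    exact IsConj.trans hd (isConj_iff.2 ⟨g, rfl⟩)
  obtain ⟨y, hy, z, hz, hyx, hzx, -, hcover⟩ := hrank x₀ hx₀
  have hself : ∀ g : G, Commute g x₀ → g * x₀ * g⁻¹ = x₀ := fun g hg => by
    rw [hg.eq, mul_inv_cancel_right]
  have hyne : y ≠ x₀ := fun e => hyx (by rw [e])
  have hzne : z ≠ x₀ := fun e => hzx (by rw [e])
  have hord : ∀ d ∈ D, x₀ ≠ d →
      orderOf (x₀ * d) = orderOf (x₀ * y) ∨ orderOf (x₀ * d) = orderOf (x₀ * z) := by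
    intro d hd hne
    rw [hcover] at hd
    rcases hd with (⟨g, hg, rfl⟩ | ⟨g, hg, rfl⟩) | ⟨g, hg, rfl⟩
    · exact absurd (hself g hg).symm hne
    · left
      conv_lhs => rw [← hself g hg]
      rw [show g * x₀ * g⁻¹ * (g * y * g⁻¹) = g * (x₀ * y) * g⁻¹ by group, orderOf_conj]
    · right
      conv_lhs => rw [← hself g hg]
      rw [show g * x₀ * g⁻¹ * (g * z * g⁻¹) = g * (x₀ * z) * g⁻¹ by group, orderOf_conj]
  refine ⟨isThreeTranspositionSet_of_orders hFT hsol hinv hD hgen hx₀ hy hyne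
    {orderOf (x₀ * y), orderOf (x₀ * z)} Finset.card_le_two (fun x hx d hd hne => ?_)
    (fun v hv => ?_), hconj, hgen⟩
  · have hx' := hx
    rw [hDeq] at hx'
    replace hx' := isConj_iff.1 (show IsConj x₀ x from hx')
    obtain ⟨g, rfl⟩ := hx'
    have h2 := hord (g⁻¹ * d * g) (by simpa using hD g⁻¹ d hd) fun e => hne (by rw [e]; group)
    rw [show g * x₀ * g⁻¹ * d = g * (x₀ * (g⁻¹ * d * g)) * g⁻¹ by group, orderOf_conj]
    simpa using h2
  · simp only [Finset.mem_insert, Finset.mem_singleton] at hv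
    rcases hv with rfl | rfl
    · exact ⟨x₀, hx₀, y, hy, hyne.symm, rfl⟩
    · exact ⟨x₀, hx₀, z, hz, hzne.symm, rfl⟩

end CfsgLib.TwoPTransp
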