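import Cfsg.Agent.Lib.TwoPTransp.Basic

/-!
# A minimal non-solvable group generated by {2,p}-transpositions, first part

Commuting members have the same centraliser in `D`, commuting is an equivalence relation on `D`
and the product of two distinct commuting members is again a member.
-/

set_option autoImplicit false

namespace CfsgLib.TwoPTransp

open CfsgLib.Invol

universe u

variable {G : Type u} [Group G] [Finite G]

/-- The minimal counterexample. -/
structure Minimal (p : ℕ) (D : Set G) : Prop where
  set : IsTwoPSet p D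
  five : 5 ≤ p
  gen : Subgroup.closure D = ⊤
  single : ∀ x ∈ D, ∀ y ∈ D, IsConj x y
  rad : ∀ N : Subgroup G, N.Normal → Group.IsSolvable N → N = ⊥
  nonsolv : ¬ Group.IsSolvable G
  solv : ∀ H : Subgroup G, H ≠ ⊤ → Group.IsSolvable ↥(Subgroup.closure (D ∩ H))

namespace Minimal

variable {p : ℕ} [hp : Fact p.Prime] {D : Set G} (hM : Minimal p D)
include hM

theorem odd : Odd p := hp.out.odd_of_ne_two (by have := hM.five; omega)

theorem eq_one_of_central {g : G} (hg : ∀ d ∈ D, Commute g d) : g = 1 := by
  have hc : g ∈ Subgroup.center G := by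
    rw [Subgroup.mem_center_iff]
    intro k
    have hk : k ∈ Subgroup.centralizer ({g} : Set G) := by
      have : (⊤ : Subgroup G) ≤ Subgroup.centralizer ({g} : Set G) := by
        rw [← hM.gen, Subgroup.closure_le]
        exact fun d hd => Subgroup.mem_centralizer_singleton_iff.2 (hg d hd).symm.eq
      exact this (Subgroup.mem_top k)
    exact Subgroup.mem_centralizer_singleton_iff.1 hk
  have hbot := hM.rad (Subgroup.center G) inferInstance
    (Group.isSolvable_of_comm fun a b => Subtype.ext ((Subgroup.mem_center_iff.1 b.2 a)))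
  rw [hbot] at hc
  exact Subgroup.mem_bot.1 hc

theorem centralizer_ne_top {w : G} (hw : w ≠ 1) : Subgroup.centralizer ({w} : Set G) ≠ ⊤ :=
  fun h => hw <| hM.eq_one_of_central fun d _ =>
    (Subgroup.mem_centralizer_singleton_iff.1 (h ▸ Subgroup.mem_top d :
      d ∈ Subgroup.centralizer ({w} : Set G))).symm

/-- Inside a proper subgroup no product of commuting members moves a member far. -/
theorem quad {H : Subgroup G} (hH : H ≠ ⊤) {x a y : G} (hx : x ∈ D) (ha : a ∈ D) (hy : y ∈ D)
    (hxH : x ∈ H) (haH : a ∈ H) (hyH : y ∈ H) (hxa : Commute x a) (hxy : ¬ Commute x y)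
    (hay : ¬ Commute a y) : (y * (x * a)) ^ 4 = 1 := by
  haveI := hM.solv H hH
  set K := Subgroup.closure (D ∩ H)
  let X : K := ⟨x, Subgroup.subset_closure ⟨hx, hxH⟩⟩
  let A : K := ⟨a, Subgroup.subset_closure ⟨ha, haH⟩⟩
  let Y : K := ⟨y, Subgroup.subset_closure ⟨hy, hyH⟩⟩
  have h := quad_of_solvable (x := X) (a := A) (y := Y) hM.five (hM.set.comap_subgroup K) hx ha hy
    (Subtype.ext hxa) (fun h => hxy (congrArg Subtype.val h)) (fun h => hay (congrArg Subtype.val h))
  exact congrArg Subtype.val h

theorem not_quad_of_mem {x a y : G} (hy : y ∈ D) (hu : x * a ∈ D)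
    (hn : ¬ Commute y (x * a)) (h4 : (y * (x * a)) ^ 4 = 1) : False := by
  have hop := hM.set.orderOf_mul hy hu hn
  have hdvd := orderOf_dvd_of_pow_eq_one h4
  rw [hop] at hdvd
  have := Nat.le_of_dvd (by norm_num) hdvd
  have := hM.five
  omega

/-- A product of two commuting members is a member or moves an outside member to a commuting
one. -/
theorem mem_or_quad {x a y : G} (hx : x ∈ D) (ha : a ∈ D) (hy : y ∈ D) (hne : x ≠ a)
    (hxa : Commute x a) (hxy : ¬ Commute x y) (hay : ¬ Commute a y) :
    x * a ∈ D ∨ (y * (x * a)) ^ 4 = 1 := by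
  have hodd := hM.odd
  have hsqx := hM.set.sq hx
  have hu2 : (x * a) * (x * a) = 1 := by
    rw [← pow_two, hxa.mul_pow, pow_two, pow_two, hsqx, hM.set.sq ha, mul_one]
  have hu1 : x * a ≠ 1 := fun e => hne (by
    rw [← inv_eq_of_mul_eq_one_right e, hM.set.inv hx])
  have huo : orderOf (x * a) = 2 := orderOf_eq_two hu1 hu2
  rcases hM.set.quad_or hx ha hy hxa with h4 | h2p
  · exact Or.inr h4
  set u := x * a with hu
  by_cases hpow : (y * u) ^ p = 1
  · left
    obtain ⟨c, hc⟩ := isConj_iff.1 (isConj_of_odd (hM.set.sq hy) hu2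
      (hodd.of_dvd_nat (orderOf_dvd_of_pow_eq_one hpow)))
    rw [← hc]
    exact hM.set.conj c y hy
  set w := (y * u) ^ p with hw
  have hww : w * w = 1 := by rw [hw, ← pow_add, ← two_mul, h2p]
  have hwinv : w⁻¹ = w := inv_eq_of_mul_eq_one_right hww
  have hwy : Commute w y := by
    have h1 := conj_zpow_of_inverts (conj_prod (hM.set.sq hy) hu2) (p : ℤ)
    rw [zpow_neg, zpow_natCast, ← hw, hwinv] at h1
    show w * y = y * w
    calc w * y = (y * w * y⁻¹) * y := by rw [h1]
      _ = y * w := by group
  have hwu : Commute w u := by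
    have h1 : Commute w (y * u) := Commute.pow_self _ _
    have e : u = y * (y * u) := by rw [← mul_assoc, hM.set.sq hy, one_mul]
    rw [e]
    exact hwy.mul_right h1
  have hd : u * w ∈ D := by
    obtain ⟨m, hm⟩ : ∃ m : ℕ, p + 1 = 2 * m := by
      obtain ⟨k, hk⟩ := hodd
      exact ⟨k + 1, by omega⟩
    have e : u * w = y * (y * u) ^ (p + 1) := by
      rw [pow_succ', ← hw, ← mul_assoc, ← mul_assoc y y u, hM.set.sq hy, one_mul]
    have := hM.set.conj ((y * u) ^ (-(m : ℤ))) y hy
    rw [conj_by_zpow (hM.set.sq hy) hu2, show -2 * -(m : ℤ) = ((p + 1 : ℕ) : ℤ) by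
      rw [hm]; push_cast; ring, zpow_natCast] at this
    rwa [e]
  have hdu : Commute (u * w) u := (Commute.refl u).mul_left hwu
  obtain ⟨hdx, hda⟩ := hM.set.commute_of_fixed hodd hd hx ha hne hdu
  have hwe : w = u * (u * w) := by rw [← mul_assoc, hu2, one_mul]
  have hwx : Commute w x := by
    rw [hwe]
    exact ((Commute.refl x).mul_left hxa.symm).mul_left hdx
  have hwa : Commute w a := by
    rw [hwe]
    exact (hxa.mul_left (Commute.refl a)).mul_left hda
  exact Or.inr <| hM.quad (hM.centralizer_ne_top hpow) hx ha hy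
    (Subgroup.mem_centralizer_singleton_iff.2 hwx.symm.eq)
    (Subgroup.mem_centralizer_singleton_iff.2 hwa.symm.eq)
    (Subgroup.mem_centralizer_singleton_iff.2 hwy.symm.eq) hxa hxy hay

/-- Two commuting members with an outside member have the same neighbours. -/
theorem commute_of_commute {x a y t : G} (hx : x ∈ D) (ha : a ∈ D) (hy : y ∈ D) (hxa : Commute x a)
    (hxy : ¬ Commute x y) (hay : ¬ Commute a y) (ht : t ∈ D) (htx : Commute t x) :
    Commute t a := by
  have hodd := hM.odd
  by_cases hne : x = a
  · exact hne ▸ htx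
  by_contra hta
  have hsqx := hM.set.sq hx
  have hsqa := hM.set.sq ha
  have hsqy := hM.set.sq hy
  have hu2 : (x * a) * (x * a) = 1 := by
    rw [← pow_two, hxa.mul_pow, pow_two, pow_two, hsqx, hsqa, mul_one]
  rcases hM.mem_or_quad hx ha hy hne hxa hxy hay with hu | h4
  · rcases hM.set.dich t ht _ hu with hc | hq
    · exact hta (hM.set.commute_of_fixed hodd ht hx ha hne hc).2
    · have hcomm : Commute x (t * a) := htx.symm.mul_right hxa
      have e : t * (x * a) = x * (t * a) := by rw [← mul_assoc, htx.eq, mul_assoc]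
      rw [e, hcomm.mul_pow, hM.set.pow_eq_one ht ha hta, mul_one] at hq
      exact hM.set.ne_one hx (eq_one_of_pow_two_of_pow hodd (by rw [pow_two, hsqx]) hq)
  set u := x * a with hu
  have huinv : u⁻¹ = u := inv_eq_of_mul_eq_one_right hu2
  have hyu : ¬ Commute y u := fun hc =>
    hxy (hM.set.commute_of_fixed hodd hy hx ha hne hc).1.symm
  set z := u * y * u with hz
  have hzD : z ∈ D := by
    have := hM.set.conj u y hy
    rwa [huinv] at this
  have hyz : Commute y z := by
    have h2 : (y * z) * (y * z) = 1 := by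
      rw [← h4, hz]; simp only [pow_succ, pow_zero, one_mul]; group
    show y * z = z * y
    rw [← inv_eq_of_mul_eq_one_right h2, mul_inv_rev, hM.set.inv hy, hM.set.inv hzD]
  have hux : Commute u x := (Commute.refl x).mul_left hxa.symm
  have hua : Commute u a := hxa.mul_left (Commute.refl a)
  have hza : ¬ Commute z a := fun hc => hay <| by
    have := hc.map (MulAut.conj u).toMonoidHom
    simp only [MulEquiv.coe_toMonoidHom, MulAut.conj_apply, huinv, hz] at this
    rw [show u * (u * y * u) * u = (u * u) * y * (u * u) by group, hu2, one_mul, mul_one,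
      hua.eq, mul_assoc, hu2, mul_one] at this
    exact this.symm
  set v := y * z with hv
  have hvinv : v⁻¹ = v := by
    rw [hv, mul_inv_rev, hM.set.inv hy, hM.set.inv hzD, hyz.eq]
  have huv : Commute u v := by
    show u * v = v * u
    have e : u * v * u = v := by
      rw [hv, hz, show u * (y * (u * y * u)) * u = (u * y * u) * y * (u * u) by group, hu2, mul_one,
        ← hz, hyz.eq]
    calc u * v = u * v * (u * u) := by rw [hu2, mul_one]
      _ = (u * v * u) * u := by group
      _ = v * u := by rw [e]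
  set b := v * x * v with hb
  have hbD : b ∈ D := by
    have := hM.set.conj v x hx
    rwa [hvinv] at this
  have hbu : Commute b u := ((huv.symm).mul_left hux.symm).mul_left huv.symm
  obtain ⟨hbx, hba⟩ := hM.set.commute_of_fixed hodd hbD hx ha hne hbu
  have hbne : b ≠ x := by
    intro e
    have e2 : z * x * z = y * x * y := by
      conv_rhs => rw [← e, hb, hv]
      calc z * x * z = (y * y) * z * x * z * (y * y) := by rw [hsqy, one_mul, mul_one]
        _ = y * (y * z * x * (z * y)) * y := by group
        _ = y * (y * z * x * (y * z)) * y := by rw [hyz.eq]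
    have hxz : ¬ Commute x z := fun hc => hxy <| by
      have := hc.map (MulAut.conj u).toMonoidHom
      simp only [MulEquiv.coe_toMonoidHom, MulAut.conj_apply, huinv, hz] at this
      rw [show u * (u * y * u) * u = (u * u) * y * (u * u) by group, hu2, one_mul, mul_one,
        hux.eq, mul_assoc, hu2, mul_one] at this
      exact this
    have hzy := hM.set.midpoint_unique hodd hx hzD hy hxz e2
    apply hyu
    show y * u = u * y
    calc y * u = z * u := by rw [hzy]
      _ = u * y := by rw [hz, mul_assoc, hu2, mul_one]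
  by_cases hba' : b = a
  · -- the product `u` exchanges both pairs: only possible for `p = 3`
    have hbe : b = y * z * x * (z * y) := by
      conv_lhs => rw [hb, hv]
      rw [show z * y = y * z from hyz.eq.symm]
    have h1 : z * a * z = y * x * y := by
      rw [← hba', hbe, show z * (y * z * x * (z * y)) * z = (z * y * z) * x * (z * y * z) by group,
        (commute_iff_conj_eq (hM.set.sq hzD)).1 hyz.symm]
    have h2 : a * z * a = x * y * x := by
      rw [hz, hu, show a * (x * a * y * (x * a)) * a = (a * x * a) * y * x * (a * a) by group, hsqa,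
        mul_one, ← hxa.eq, mul_assoc x a a, hsqa, mul_one]
    have h3 : (z * a) ^ 3 = (y * x) ^ 3 := by
      simp only [pow_succ, pow_zero, one_mul]
      rw [show z * a * (z * a) * (z * a) = (z * a * z) * (a * z * a) by group, h1, h2]
      group
    have hcop : Nat.gcd p 3 = 1 :=
      (Nat.coprime_primes hp.out Nat.prime_three).2 (by have := hM.five; omega)
    have hp1 : (z * a) ^ p = (y * x) ^ p := by
      rw [hM.set.pow_eq_one hzD ha hza, hM.set.pow_eq_one hy hx fun h => hxy h.symm]
    have hzx : z * a = y * x := by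
      have := Nat.gcd_eq_gcd_ab p 3
      rw [hcop] at this
      calc z * a = (z * a) ^ ((1 : ℕ) : ℤ) := by rw [Nat.cast_one, zpow_one]
        _ = (y * x) ^ ((1 : ℕ) : ℤ) := by
          rw [this, zpow_add, zpow_add, zpow_mul, zpow_mul, zpow_mul, zpow_mul, zpow_natCast,
            zpow_natCast, zpow_natCast, zpow_natCast, h3, hp1]
        _ = y * x := by rw [Nat.cast_one, zpow_one]
    have hzy : z = y := mul_left_cancel (a := y * x) (by
      rw [← h1, ← hzx])
    apply hyu
    show y * u = u * y
    calc y * u = z * u := by rw [hzy]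
      _ = u * y := by rw [hz, mul_assoc, hu2, mul_one]
  -- a second representation `u = b c`
  set c := v * a * v with hc'
  have hcD : c ∈ D := by
    have := hM.set.conj v a ha
    rwa [hvinv] at this
  have hvv : v * v = 1 := by nth_rw 1 [← hvinv]; exact inv_mul_cancel v
  have hbc : b * c = u := by
    rw [hb, hc', show v * x * v * (v * a * v) = v * (x * (v * v) * a) * v by group, hvv, mul_one,
      ← hu, ← huv.eq, mul_assoc, hvv, mul_one]
  have hcu : Commute c u := ((huv.symm).mul_left hua.symm).mul_left huv.symm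
  obtain ⟨hcx, hca⟩ := hM.set.commute_of_fixed hodd hcD hx ha hne hcu
  have hcb : c = b * u := by rw [← hbc, ← mul_assoc, hM.set.sq hbD, one_mul]
  have hab : a * b = x * c := by
    rw [hcb, hu, show x * (b * (x * a)) = x * b * x * a by group,
      (commute_iff_conj_eq hsqx).1 hbx.symm, hba.eq]
  have habne : a ≠ b := fun e => hba' e.symm
  have htb : ¬ Commute t b := fun hc => hta <| by
    have h1 : Commute t (x * b) := htx.mul_right hc
    have h2 : x * b = a * c := by
      rw [hcb, hu, show a * (b * (x * a)) = a * (b * x) * a by group, hbx.eq,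
        show a * (x * b) * a = (a * x) * (b * a) by group, ← hxa.eq, hba.eq,
        show x * a * (a * b) = x * (a * a) * b by group, hsqa, mul_one]
    rw [h2] at h1
    refine (hM.set.commute_of_fixed hodd ht ha hcD ?_ h1).1
    intro e
    apply hbne
    calc b = (b * c) * c := by rw [mul_assoc, hM.set.sq hcD, mul_one]
      _ = u * a := by rw [hbc, ← e]
      _ = x := by rw [hu, mul_assoc, hsqa, mul_one]
  have htc : ¬ Commute t c := fun hc => hta <| by
    have h1 : Commute t (a * b) := hab ▸ htx.mul_right hc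
    exact (hM.set.commute_of_fixed hodd ht ha hbD habne h1).1
  have h4' := hM.quad (hM.centralizer_ne_top (hM.set.ne_one hx)) ha hbD ht
    (Subgroup.mem_centralizer_singleton_iff.2 hxa.symm.eq)
    (Subgroup.mem_centralizer_singleton_iff.2 hbx.eq)
    (Subgroup.mem_centralizer_singleton_iff.2 htx.eq) hba.symm (fun h => hta h.symm)
    (fun h => htb h.symm)
  have e : t * (a * b) = x * (t * c) := by rw [hab, ← mul_assoc, htx.eq, mul_assoc]
  have hcomm : Commute x (t * c) := htx.symm.mul_right hcx.symm
  rw [e, hcomm.mul_pow, show 4 = 2 * 2 from rfl, pow_mul, pow_two x, hsqx, one_pow, one_mul] at h4'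
  have hdvd := orderOf_dvd_of_pow_eq_one h4'
  rw [hM.set.orderOf_mul ht hcD htc] at hdvd
  have := Nat.le_of_dvd (by norm_num) hdvd
  have := hM.five
  omega

/-- Same centraliser in `D`, or not commuting. -/
theorem related {x y z : G} (hx : x ∈ D) (hy : y ∈ D) (hz : z ∈ D)
    (h1 : (∀ d ∈ D, Commute d x ↔ Commute d y) ∨ ¬ Commute x y)
    (h2 : (∀ d ∈ D, Commute d y ↔ Commute d z) ∨ ¬ Commute y z) :
    (∀ d ∈ D, Commute d x ↔ Commute d z) ∨ ¬ Commute x z := by
  rcases h1 with h1 | h1 <;> rcases h2 with h2 | h2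
  · exact Or.inl fun d hd => (h1 d hd).trans (h2 d hd)
  · exact Or.inr fun hc => h2 ((h1 z hz).1 hc.symm).symm
  · exact Or.inr fun hc => h1 ((h2 x hx).2 hc)
  · by_cases hc : Commute x z
    · exact Or.inl fun d hd =>
        ⟨fun hdx => hM.commute_of_commute hx hz hy hc h1 (fun h => h2 h.symm) hd hdx,
          fun hdz => hM.commute_of_commute hz hx hy hc.symm (fun h => h2 h.symm) h1 hd hdz⟩
    · exact Or.inr hc

/-- Commuting is transitive on `D`. -/
theorem commute_trans {x a d : G} (hx : x ∈ D) (ha : a ∈ D) (hd : d ∈ D) (hxa : Commute x a)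
    (hdx : Commute d x) : Commute d a := by
  have hodd := hM.odd
  have hrel : ∀ g : G, ∀ e ∈ D,
      ((∀ d ∈ D, Commute d e ↔ Commute d (g * e * g⁻¹)) ∨ ¬ Commute e (g * e * g⁻¹)) := by
    intro g
    have hg : g ∈ Subgroup.closure D := hM.gen ▸ Subgroup.mem_top g
    induction hg using Subgroup.closure_induction with
    | mem s hs =>
      intro e he
      rw [hM.set.inv hs]
      by_cases hc : Commute e s
      · rw [(commute_iff_conj_eq (hM.set.sq hs)).1 hc.symm]
        exact Or.inl fun _ _ => Iff.rfl
      · exact Or.inr (hM.set.not_commute_conj hodd he hs hc)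
    | one => intro e _; simp
    | mul g₁ g₂ _ _ i1 i2 =>
      intro e he
      rw [show g₁ * g₂ * e * (g₁ * g₂)⁻¹ = g₁ * (g₂ * e * g₂⁻¹) * g₁⁻¹ by group]
      exact hM.related he (hM.set.conj _ _ he) (hM.set.conj _ _ (hM.set.conj _ _ he))
        (i2 e he) (i1 _ (hM.set.conj _ _ he))
    | inv g _ ig =>
      intro e he
      have := ig _ (hM.set.conj g⁻¹ e he)
      rw [show g * (g⁻¹ * e * g⁻¹⁻¹) * g⁻¹ = e by group] at this
      rcases this with h | h
      · exact Or.inl fun d hd => (h d hd).symm
      · exact Or.inr fun hc => h hc.symm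
  obtain ⟨g, hg⟩ := isConj_iff.1 (hM.single x hx a ha)
  have := hrel g x hx
  rw [hg] at this
  rcases this with h | h
  · exact (h d hd).1 hdx
  · exact absurd hxa h

/-- The product of two distinct commuting members is a member. -/
theorem mul_mem {x a : G} (hx : x ∈ D) (ha : a ∈ D) (hne : x ≠ a) (hxa : Commute x a) :
    x * a ∈ D := by
  have hodd := hM.odd
  by_contra hu
  -- the subgroup of elements fixing every class
  let N : Subgroup G :=
    { carrier := {g | ∀ d ∈ D, Commute d (g * d * g⁻¹)}
      one_mem' := fun d _ => by simp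
      mul_mem' := fun {g k} hg hk d hd => by
        rw [show g * k * d * (g * k)⁻¹ = g * (k * d * k⁻¹) * g⁻¹ by group]
        exact hM.commute_trans (hM.set.conj k d hd) (hM.set.conj g _ (hM.set.conj k d hd)) hd
          (hg _ (hM.set.conj k d hd)) (hk d hd)
      inv_mem' := fun {g} hg d hd => by
        have := hg _ (hM.set.conj g⁻¹ d hd)
        rw [show g * (g⁻¹ * d * g⁻¹⁻¹) * g⁻¹ = d by group] at this
        exact this.symm }
  haveI hNn : N.Normal := ⟨fun n hn g d hd => by
    have := (hn _ (hM.set.conj g⁻¹ d hd)).map (MulAut.conj g).toMonoidHom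
    simp only [MulEquiv.coe_toMonoidHom, MulAut.conj_apply] at this
    rw [show g * (g⁻¹ * d * g⁻¹⁻¹) * g⁻¹ = d by group] at this
    rw [show g * n * g⁻¹ * d * (g * n * g⁻¹)⁻¹ =
      g * (n * (g⁻¹ * d * g⁻¹⁻¹) * n⁻¹) * g⁻¹ by group]
    exact this⟩
  have huinv : (x * a)⁻¹ = x * a := by
    rw [mul_inv_rev, hM.set.inv hx, hM.set.inv ha, hxa.eq]
  have huN : x * a ∈ N := by
    intro d hd
    by_cases hdx : Commute d x
    · have hda := hM.commute_trans hx ha hd hxa hdx
      rw [(hdx.mul_right hda).symm.eq, mul_inv_cancel_right]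
    · rcases hM.mem_or_quad hx ha hd hne hxa (fun h => hdx h.symm)
        (fun h => hdx (hM.commute_trans ha hx hd hxa.symm h.symm)) with h | h
      · exact absurd h hu
      · rw [huinv]
        have hzD : x * a * d * (x * a) ∈ D := by
          have := hM.set.conj (x * a) d hd
          rwa [huinv] at this
        have h2 : (d * (x * a * d * (x * a))) * (d * (x * a * d * (x * a))) = 1 := by
          rw [← h]; simp only [pow_succ, pow_zero, one_mul]; group
        show d * (x * a * d * (x * a)) = x * a * d * (x * a) * d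
        rw [← inv_eq_of_mul_eq_one_right h2, mul_inv_rev, hM.set.inv hd, hM.set.inv hzD]
  haveI : Fact (Nat.Prime 2) := ⟨Nat.prime_two⟩
  set B := {d ∈ D | Commute d x} with hB
  set E := Subgroup.closure B with hE
  have hBc : ∀ b ∈ B, ∀ b' ∈ B, Commute b b' := fun b hb b' hb' =>
    hM.commute_trans hx hb'.1 hb.1 hb'.2.symm hb.2
  haveI hEc : IsMulCommutative E := Subgroup.isMulCommutative_closure fun b hb b' hb' =>
    (hBc b hb b' hb').eq
  have hE2 : IsPGroup 2 E := by
    intro e
    refine ⟨1, Subtype.ext ?_⟩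
    rw [Subgroup.coe_pow, Subgroup.coe_one, pow_one]
    obtain ⟨e, he⟩ := e
    show e ^ 2 = 1
    induction he using Subgroup.closure_induction with
    | mem b hb => rw [pow_two]; exact hM.set.sq hb.1
    | one => exact one_pow 2
    | mul g k hg hk ihg ihk =>
      rw [Commute.mul_pow (congrArg Subtype.val (hEc.is_comm.comm
        (⟨g, hg⟩ : E) ⟨k, hk⟩)), ihg, ihk, mul_one]
    | inv g _ ihg => rw [inv_pow, ihg, inv_one]
  haveI hAn : (E.subgroupOf N).Normal := by
    refine ⟨fun e he n => ?_⟩
    rw [Subgroup.mem_subgroupOf] at he ⊢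
    have : ∀ b ∈ B, (n : G) * b * (n : G)⁻¹ ∈ B := fun b hb => by
      refine ⟨hM.set.conj _ _ hb.1, ?_⟩
      exact hM.commute_trans hb.1 hx (hM.set.conj _ _ hb.1) hb.2 (n.2 b hb.1).symm
    have hle : E.map (MulAut.conj (n : G)).toMonoidHom ≤ E := by
      rw [hE, MonoidHom.map_closure]
      refine Subgroup.closure_mono ?_
      rintro _ ⟨b, hb, rfl⟩
      exact this b hb
    exact hle ⟨_, he, rfl⟩
  have hAp : IsPGroup 2 (E.subgroupOf N) := by
    intro e
    obtain ⟨k, hk⟩ := hE2 ⟨((e : N) : G), e.2⟩
    refine ⟨k, ?_⟩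
    apply Subtype.ext
    apply Subtype.ext
    simpa using congrArg Subtype.val hk
  have hle := Solvable.le_pCore hAn hAp
  have hmem : x * a ∈ (Cfsg.pCore 2 N).map N.subtype :=
    ⟨⟨x * a, huN⟩, hle (Subgroup.mem_subgroupOf.2 (E.mul_mem
      (Subgroup.subset_closure ⟨hx, Commute.refl x⟩) (Subgroup.subset_closure ⟨ha, hxa.symm⟩))), rfl⟩
  have h2 := Solvable.map_subtype_pCore_le (p := 2) N hmem
  haveI : Group.IsNilpotent (Cfsg.pCore 2 G) := (Solvable.pCore_isPGroup (p := 2) G).isNilpotent
  rw [hM.rad (Cfsg.pCore 2 G) (Solvable.pCore_normal (p := 2) G) inferInstance, Subgroup.mem_bot] at h2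
  exact hne (by rw [← inv_eq_of_mul_eq_one_right h2, hM.set.inv hx])

end Minimal

end CfsgLib.TwoPTransp
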